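import Cfsg.Agent.SEmbed.Counting

/-!
# The coset action of a group with a strongly embedded subgroup
-/

namespace CfsgLib.SEmbed

open CfsgLib.Small

variable {G : Type*} [Group G]

theorem smul_mk_one (H : Subgroup G) (g : G) :
    g • ((1 : G) : G ⧸ H) = ((g : G) : G ⧸ H) := by
  rw [MulAction.Quotient.smul_mk, smul_eq_mul, mul_one]

theorem smul_mk_eq_iff (H : Subgroup G) (t g : G) :
    t • (g : G ⧸ H) = (g : G ⧸ H) ↔ g⁻¹ * t * g ∈ H := by
  rw [MulAction.Quotient.smul_mk, smul_eq_mul, eq_comm, QuotientGroup.eq, ← mul_assoc]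

theorem smul_one_eq_iff (H : Subgroup G) (t : G) :
    t • ((1 : G) : G ⧸ H) = ((1 : G) : G ⧸ H) ↔ t ∈ H := by
  rw [smul_mk_eq_iff, inv_one, one_mul, mul_one]

theorem invMap_one (H : Subgroup G) :
    invMap (G := G) ((1 : G) : G ⧸ H) ((1 : G) : G ⧸ H) = {t | orderOf t = 2 ∧ t ∈ H} := by
  ext t
  exact and_congr_right fun _ => smul_one_eq_iff H t

theorem pairStab_one (H : Subgroup G) (u : G) :
    pairStab G ((1 : G) : G ⧸ H) (u : G ⧸ H) = H ⊓ H.map (MulAut.conj u).toMonoidHom := by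
  ext g
  rw [mem_pairStab, Subgroup.mem_inf, smul_one_eq_iff, smul_mk_eq_iff]
  refine and_congr_right fun _ => ⟨fun hg => ⟨_, hg, by simp [mul_assoc]⟩, ?_⟩
  rintro ⟨k, hk, rfl⟩
  simpa [mul_assoc] using hk

variable [Finite G]

/-- In the action on the cosets of a strongly embedded subgroup every involution fixes exactly
one point. -/
theorem uniqueFix {H : Subgroup G} (hH : Cfsg.IsStronglyEmbedded H) : UniqueFix G (G ⧸ H) := by
  haveI : Fact (Nat.Prime 2) := ⟨Nat.prime_two⟩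
  have hse := (isStronglyEmbedded_iff hH.1 hH.2.1).1 hH
  obtain ⟨t, htH, ht⟩ := exists_invol_mem hH.2.1
  have hex : ∀ x : G ⧸ H, ∃ i : G, orderOf i = 2 ∧ i • x = x := by
    intro x
    obtain ⟨g, rfl⟩ := QuotientGroup.mk_surjective x
    exact ⟨g * t * g⁻¹, by rw [orderOf_conj_eq, ht],
      (smul_mk_eq_iff H _ g).2 (by simpa [mul_assoc] using htH)⟩
  have htrans : ∀ x y : G ⧸ H, ∃ g : G, g • x = y := fun x y => MulAction.exists_smul_eq G x y
  refine ⟨fun i hi x y hx hy => ?_, fun i hi => ?_, hex, htrans⟩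
  · obtain ⟨a, rfl⟩ := QuotientGroup.mk_surjective x
    obtain ⟨b, rfl⟩ := QuotientGroup.mk_surjective y
    rw [smul_mk_eq_iff] at hx hy
    have ho : orderOf (a⁻¹ * i * a) = 2 := by
      have := orderOf_conj_eq a⁻¹ i
      rwa [inv_inv, hi] at this
    have h2 := hse _ hx ho (a⁻¹ * b) (by
      rw [show (a⁻¹ * b)⁻¹ * (a⁻¹ * i * a) * (a⁻¹ * b) = b⁻¹ * i * b by group]
      exact hy)
    exact QuotientGroup.eq.2 h2
  · -- the index of `H` is odd, so a Sylow subgroup containing `i` has a fixed point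
    have hodd : ¬ 2 ∣ Nat.card (G ⧸ H) := by
      intro hdvd
      have hfix : ∀ x : G ⧸ H, t • x = x → x = ((1 : G) : G ⧸ H) := by
        intro x hx
        obtain ⟨a, rfl⟩ := QuotientGroup.mk_surjective x
        rw [smul_mk_eq_iff] at hx
        refine (QuotientGroup.eq.2 ?_).symm
        simpa using hse t htH ht a hx
      have hp : IsPGroup 2 (Subgroup.zpowers t) :=
        IsPGroup.of_card (n := 1) (by rw [Nat.card_zpowers, ht, pow_one])
      obtain ⟨b, hb, hb1⟩ := hp.exists_fixed_point_of_prime_dvd_card_of_fixed_point (G ⧸ H) hdvd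
        (a := ((1 : G) : G ⧸ H)) (by
          rintro ⟨g, hg⟩
          obtain ⟨k, rfl⟩ := Subgroup.mem_zpowers_iff.1 hg
          exact (smul_one_eq_iff H _).2 (zpow_mem htH k))
      exact hb1 (hfix b (hb ⟨t, Subgroup.mem_zpowers t⟩)).symm
    have hp : IsPGroup 2 (Subgroup.zpowers i) :=
      IsPGroup.of_card (n := 1) (by rw [Nat.card_zpowers, hi, pow_one])
    obtain ⟨x, hx⟩ := hp.nonempty_fixed_point_of_prime_not_dvd_card (G ⧸ H) hodd
    exact ⟨x, hx ⟨i, Subgroup.mem_zpowers i⟩⟩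

theorem nontrivial_cosets {H : Subgroup G} (hH : Cfsg.IsStronglyEmbedded H) :
    Nontrivial (G ⧸ H) := by
  rw [← not_subsingleton_iff_nontrivial]
  exact fun hs => hH.1 (@QuotientGroup.subgroup_eq_top_of_subsingleton _ _ _ hs)

end CfsgLib.SEmbed
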