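import Cfsg.Agent.SEmbed.Cosets
import Cfsg.Agent.Coprime.Generation

/-!
# Elementary facts on an action in which every involution fixes exactly one point

With `I(a) = invMap a a`, `J = invMap a b` and `D = pairStab G a b`:

* L1 `stabilizer_eq_centralizer_mul`: the stabilizer of `a` is `C(t) D` for every `t ∈ I(a)`
  (transitivity of `D` on `I(a)`, `J` and the equality of their sizes are in `Counting`);
* L2 `le_stabilizer_of_four`: a four group at `a` normalizes only subgroups of odd order lying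
  in the stabilizer of `a`;
* L3 `existsUnique_interchange`, `fixed_mul_eq`, `fixed_card_cases`: the numbers `X`, `Y`, `Z` of
  fixed points of `d ∈ D` on `I(a)`, `I(b)`, `J` satisfy `XY = XZ = YZ`;
* L5 `isConj_in`, `invol_mem_of_normal`, `le_stabilizer_of_normal_odd`: subgroups having involutions
  at two points.
-/

set_option autoImplicit false
set_option linter.style.haveILetI false

namespace CfsgLib.SEmbed

open CfsgLib.Small

/-- An elementary abelian subgroup of order four. -/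
def IsFour {G : Type*} [Group G] (V : Subgroup G) : Prop :=
  Nat.card V = 4 ∧ ∀ x ∈ V, x * x = 1

section Four

variable {G : Type*} [Group G] {V : Subgroup G}

theorem IsFour.commute (hV : IsFour V) {x y : G} (hx : x ∈ V) (hy : y ∈ V) : Commute x y := by
  have h := hV.2 _ (mul_mem hx hy)
  have hx' := inv_eq_of_mul_eq_one_right (hV.2 x hx)
  have hy' := inv_eq_of_mul_eq_one_right (hV.2 y hy)
  have h' := inv_eq_of_mul_eq_one_right h
  rw [mul_inv_rev, hx', hy'] at h'
  exact h'.symm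

theorem IsFour.isMulCommutative (hV : IsFour V) : IsMulCommutative V :=
  ⟨⟨fun x y => Subtype.ext (hV.commute x.2 y.2).eq⟩⟩

theorem IsFour.orderOf_eq_two (hV : IsFour V) {x : G} (hx : x ∈ V) (hx1 : x ≠ 1) : orderOf x = 2 :=
  orderOf_eq_two_iff_sq.2 ⟨hx1, hV.2 x hx⟩

theorem IsFour.exists_invol (hV : IsFour V) : ∃ v ∈ V, orderOf v = 2 := by
  rcases V.bot_or_exists_ne_one with rfl | ⟨v, hv, hv1⟩
  · have h := hV.1
    rw [Subgroup.card_bot] at h
    omega
  · exact ⟨v, hv, hV.orderOf_eq_two hv hv1⟩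

theorem IsFour.not_isCyclic (hV : IsFour V) : ¬ IsCyclic V := fun _ => by
  obtain ⟨g, hg⟩ := IsCyclic.exists_generator (α := V)
  have h := orderOf_eq_card_of_forall_mem_zpowers hg
  have h2 : orderOf g ∣ 2 :=
    orderOf_dvd_of_pow_eq_one (Subtype.ext (by simpa [pow_two] using hV.2 g g.2))
  rw [h, hV.1] at h2
  norm_num at h2

theorem IsFour.isPGroup (hV : IsFour V) : IsPGroup 2 V :=
  IsPGroup.of_card (n := 2) (by rw [hV.1]; norm_num)

theorem isFour_closure_pair {s t : G} (hs : orderOf s = 2) (ht : orderOf t = 2) (hst : s ≠ t)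
    (hc : Commute s t) : IsFour (Subgroup.closure ({s, t} : Set G)) := by
  have hss := mul_self_of_orderOf_two hs
  have htt := mul_self_of_orderOf_two ht
  have h2 : orderOf (s * t) = 2 := by
    refine orderOf_eq_two_iff_sq.2 ⟨fun h => hst ?_, ?_⟩
    · rw [eq_inv_of_mul_eq_one_left h, inv_eq_of_mul_eq_one_right htt]
    · rw [mul_assoc, ← mul_assoc t, hc.symm.eq, mul_assoc s t, htt, mul_one, hss]
  have hcard : Nat.card (Subgroup.closure ({s, t} : Set G)) = 4 := by
    rw [card_closure_pair_invol hs ht hst, h2]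
  refine ⟨hcard, fun x hx => ?_⟩
  have hcomm : IsMulCommutative (Subgroup.closure ({s, t} : Set G)) := by
    refine Subgroup.isMulCommutative_closure ?_
    rintro p (rfl | rfl) q (rfl | rfl)
    exacts [rfl, hc.eq, hc.eq.symm, rfl]
  induction hx using Subgroup.closure_induction with
  | mem y hy => rcases hy with rfl | rfl <;> assumption
  | one => exact one_mul 1
  | mul p q hp hq hp2 hq2 =>
    have : q * p = p * q := congrArg Subtype.val (hcomm.is_comm.comm ⟨q, hq⟩ ⟨p, hp⟩)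
    rw [mul_assoc, ← mul_assoc q, this, mul_assoc p q, hq2, mul_one, hp2]
  | inv p _ hp2 => rw [← mul_inv_rev, hp2, inv_one]

end Four

variable {G : Type*} [Group G] {Ω : Type*} [MulAction G Ω] [Finite G] (h : UniqueFix G Ω)
include h

omit [Finite G] h in
theorem pairStab_symm (a b : Ω) : pairStab G a b = pairStab G b a := inf_comm _ _

/-- An element centralizing an involution at `a` fixes `a`. -/
theorem centralizer_le_stabilizer {a : Ω} {t : G} (ht : t ∈ invMap (G := G) a a) :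
    Subgroup.centralizer ({t} : Set G) ≤ MulAction.stabilizer G a := fun _ hg =>
  commute_fix h ht.1 (Subgroup.mem_centralizer_singleton_iff.1 hg) ht.2

omit [Finite G] h in
theorem conj_mem_invMap {a : Ω} {g t : G} (hg : g ∈ MulAction.stabilizer G a)
    (ht : t ∈ invMap (G := G) a a) : g * t * g⁻¹ ∈ invMap (G := G) a a := by
  have hga : g • a = a := hg
  refine ⟨by rw [orderOf_conj_eq]; exact ht.1, ?_⟩
  rw [mul_smul, mul_smul, inv_smul_eq_iff.2 hga.symm, ht.2, hga]

/-- **L1**: the stabilizer of `a` is `C(t) D`. -/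
theorem stabilizer_eq_centralizer_mul {a b : Ω} (hab : a ≠ b) {t : G}
    (ht : t ∈ invMap (G := G) a a) {g : G} (hg : g • a = a) :
    ∃ c ∈ Subgroup.centralizer ({t} : Set G), ∃ d ∈ pairStab G a b, g = d * c := by
  obtain ⟨d, hd, hdt⟩ := exists_conj_fix h hab ht (conj_mem_invMap hg ht)
  refine ⟨d⁻¹ * g, ?_, d, hd, (mul_inv_cancel_left d g).symm⟩
  rw [Subgroup.mem_centralizer_singleton_iff]
  refine mul_inv_eq_iff_eq_mul.1 ?_
  calc d⁻¹ * g * t * (d⁻¹ * g)⁻¹ = d⁻¹ * (g * t * g⁻¹) * d := by group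
    _ = t := by rw [← hdt]; group

/-- The involutions of a four group all fix the same point. -/
theorem IsFour.smul_eq {V : Subgroup G} (hV : IsFour V) {a : Ω} {v : G} (hv : v ∈ V)
    (hv1 : v ≠ 1) (hva : v • a = a) {w : G} (hw : w ∈ V) : w • a = a :=
  commute_fix h (hV.orderOf_eq_two hv hv1) (hV.commute hw hv) hva

theorem IsFour.exists_point {V : Subgroup G} (hV : IsFour V) :
    ∃ a : Ω, V ≤ MulAction.stabilizer G a := by
  obtain ⟨v, hv, hvo⟩ := hV.exists_invol
  obtain ⟨a, ha⟩ := h.exists_fix v hvo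
  exact ⟨a, fun w hw => IsFour.smul_eq h hV hv (ne_one_of_orderOf_two hvo) ha hw⟩

/-- A four group at `a` and a subgroup `Y` of odd order it normalizes: `Y` fixes `a`. -/
theorem le_stabilizer_of_four {V Y : Subgroup G} (hV : IsFour V) {a : Ω}
    (hVa : V ≤ MulAction.stabilizer G a) (hY : Odd (Nat.card Y))
    (hVY : V ≤ Subgroup.normalizer (Y : Set G)) : Y ≤ MulAction.stabilizer G a := by
  haveI := hV.isMulCommutative
  refine CfsgLib.Coprime.le_of_forall_inf_centralizer_le hV.not_isCyclic hVY ?_ fun v hv hv1 => ?_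
  · rw [hV.1]
    exact (Nat.coprime_two_left.2 hY).pow_left 2
  · exact inf_le_right.trans
      (centralizer_le_stabilizer h ⟨hV.orderOf_eq_two hv hv1, hVa hv⟩)

omit [Finite G] h in
theorem interchange_conj_mem {a b : Ω} {t w : G} (ht : t ∈ invMap (G := G) a a)
    (hw : w ∈ invMap (G := G) a b) : w * t * w⁻¹ ∈ invMap (G := G) b b := by
  refine ⟨by rw [orderOf_conj_eq]; exact ht.1, ?_⟩
  rw [mul_smul, mul_smul, inv_eq_self_of_orderOf_two hw.1, smul_back hw.1 hw.2, ht.2, hw.2]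

/-- The interchanging involution conjugating `t ∈ I(a)` to `s ∈ I(b)` is unique. -/
theorem existsUnique_interchange {a b : Ω} (hab : a ≠ b) {t s : G}
    (ht : t ∈ invMap (G := G) a a) (hs : s ∈ invMap (G := G) b b) :
    ∃! w, w ∈ invMap (G := G) a b ∧ w * t * w⁻¹ = s := by
  classical
  have hcl : ∀ p : invMap (G := G) a a × invMap (G := G) a b,
      (p.2 : G) * p.1 * (p.2 : G)⁻¹ ∈ invMap (G := G) b b := by
    rintro ⟨t, w⟩
    exact interchange_conj_mem t.2 w.2
  let f : invMap (G := G) a a × invMap (G := G) a b →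
      invMap (G := G) a a × invMap (G := G) b b := fun p => (p.1, ⟨_, hcl p⟩)
  have hf : Function.Surjective f := by
    rintro ⟨t, s⟩
    obtain ⟨w, hw, hws⟩ := exists_interchange h t.2.1 s.2.1 t.2.2 s.2.2 hab
    exact ⟨(t, ⟨w, hw⟩), Prod.ext rfl (Subtype.ext hws)⟩
  have hcard : Nat.card (invMap (G := G) a a × invMap (G := G) a b) =
      Nat.card (invMap (G := G) a a × invMap (G := G) b b) := by
    rw [Nat.card_prod, Nat.card_prod, card_invMap_eq h hab, card_invMap_self h a b]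
  have hbij := (Nat.bijective_iff_surjective_and_card f).2 ⟨hf, hcard⟩
  obtain ⟨w, hw, hws⟩ := exists_interchange h ht.1 hs.1 ht.2 hs.2 hab
  refine ⟨w, ⟨hw, hws⟩, fun w' hw' => ?_⟩
  have heq : f (⟨t, ht⟩, ⟨w', hw'.1⟩) = f (⟨t, ht⟩, ⟨w, hw⟩) :=
    Prod.ext rfl (Subtype.ext (hw'.2.trans hws.symm))
  exact congrArg (fun p => (p.2 : G)) (hbij.1 heq)

omit [Finite G] h in
/-- The fixed points of `d` in `invMap x y`. -/
def fixedInv (d : G) (x y : Ω) : Set G := {i | i ∈ invMap (G := G) x y ∧ Commute d i}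

omit [Finite G] h in
theorem conj_mem_invMap_pair {a b : Ω} {d w : G} (hd : d ∈ pairStab G a b)
    (hw : w ∈ invMap (G := G) a b) : d * w * d⁻¹ ∈ invMap (G := G) a b := by
  obtain ⟨hda, hdb⟩ := mem_pairStab.1 hd
  exact ⟨by rw [orderOf_conj_eq]; exact hw.1,
    by rw [mul_smul, mul_smul, inv_smul_eq_iff.2 hda.symm, hw.2, hdb]⟩

/-- `XY = XZ`. -/
theorem fixed_mul_eq {a b : Ω} (hab : a ≠ b) {d : G} (hd : d ∈ pairStab G a b) :
    Nat.card (fixedInv d a a) * Nat.card (fixedInv d b b) =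
      Nat.card (fixedInv d a a) * Nat.card (fixedInv d a b) := by
  rw [← Nat.card_prod, ← Nat.card_prod]
  refine (Nat.card_eq_of_bijective (fun p : fixedInv d a a × fixedInv d a b =>
    ((p.1, ⟨(p.2 : G) * p.1 * (p.2 : G)⁻¹, ?_, ?_⟩) : fixedInv d a a × fixedInv d b b)) ⟨?_, ?_⟩).symm
  · exact interchange_conj_mem p.1.2.1 p.2.2.1
  · exact (p.2.2.2.mul_right p.1.2.2).mul_right p.2.2.2.inv_right
  · intro p q hpq
    simp only [Prod.mk.injEq] at hpq
    obtain ⟨h1, h2⟩ := hpq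
    have hs : (p.2 : G) * p.1 * (p.2 : G)⁻¹ ∈ invMap (G := G) b b :=
      interchange_conj_mem p.1.2.1 p.2.2.1
    obtain ⟨w, -, huniq⟩ := existsUnique_interchange h hab p.1.2.1 hs
    refine Prod.ext h1 (Subtype.ext ((huniq _ ⟨p.2.2.1, rfl⟩).trans (huniq _ ⟨q.2.2.1, ?_⟩).symm))
    rw [← h1] at h2
    exact (congrArg Subtype.val h2).symm
  · rintro ⟨⟨t, ht, htc⟩, ⟨s, hs, hsc⟩⟩
    obtain ⟨w, ⟨hw, hws⟩, huniq⟩ := existsUnique_interchange h hab ht hs
    have hdt : d⁻¹ * t * d = t := by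
      rw [mul_assoc, ← htc.eq, inv_mul_cancel_left]
    have hdw : d * w * d⁻¹ = w := by
      refine huniq _ ⟨conj_mem_invMap_pair hd hw, ?_⟩
      calc d * w * d⁻¹ * t * (d * w * d⁻¹)⁻¹ = d * (w * (d⁻¹ * t * d) * w⁻¹) * d⁻¹ := by group
        _ = s := by rw [hdt, hws]; exact mul_inv_eq_iff_eq_mul.2 hsc.eq
    exact ⟨(⟨t, ht, htc⟩, ⟨w, hw, mul_inv_eq_iff_eq_mul.1 hdw⟩), Prod.ext rfl (Subtype.ext hws)⟩

omit [Finite G] h in
theorem fixedInv_swap (d : G) (a b : Ω) : fixedInv d a b = fixedInv d b a := by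
  ext i
  exact and_congr_left' ⟨fun hi => ⟨hi.1, smul_back hi.1 hi.2⟩, fun hi => ⟨hi.1, smul_back hi.1 hi.2⟩⟩

/-- **L3**: at most one of `X, Y, Z` is nonzero, or all three are equal. -/
theorem fixed_card_cases {a b : Ω} (hab : a ≠ b) {d : G} (hd : d ∈ pairStab G a b) :
    let X := Nat.card (fixedInv d a a)
    let Y := Nat.card (fixedInv d b b)
    let Z := Nat.card (fixedInv d a b)
    (X = 0 ∧ Y = 0) ∨ (X = 0 ∧ Z = 0) ∨ (Y = 0 ∧ Z = 0) ∨ (X = Y ∧ Y = Z) := by
  intro X Y Z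
  have h1 : X * Y = X * Z := fixed_mul_eq h hab hd
  have h2 : Y * X = Y * Z := by
    have := fixed_mul_eq h hab.symm (pairStab_symm (G := G) a b ▸ hd)
    rwa [← fixedInv_swap d a b] at this
  rcases Nat.eq_zero_or_pos X with hX | hX
  · rw [hX, mul_zero, eq_comm, mul_eq_zero] at h2
    rcases h2 with hY | hZ
    exacts [Or.inl ⟨hX, hY⟩, Or.inr (Or.inl ⟨hX, hZ⟩)]
  · have hYZ : Y = Z := Nat.eq_of_mul_eq_mul_left hX h1
    rcases Nat.eq_zero_or_pos Y with hY | hY
    · exact Or.inr (Or.inr (Or.inl ⟨hY, hYZ ▸ hY⟩))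
    · exact Or.inr (Or.inr (Or.inr ⟨(Nat.eq_of_mul_eq_mul_left hY h2).trans hYZ.symm, hYZ⟩))

/-- Involutions with different fixed points are conjugate in the subgroup they generate. -/
theorem exists_conj_in {M : Subgroup G} {s t : G} (hsM : s ∈ M) (htM : t ∈ M) (hs : orderOf s = 2)
    (ht : orderOf t = 2) {x y : Ω} (hsx : s • x = x) (hty : t • y = y) (hxy : x ≠ y) :
    ∃ m ∈ M, m * s * m⁻¹ = t := by
  obtain ⟨k, hk⟩ := conj_pow_eq_of_odd hs ht (odd_mul h hs ht hsx hty hxy)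
  exact ⟨_, pow_mem (mul_mem hsM htM) k, hk⟩

/-- **L5**: in a subgroup with involutions at two points all involutions are conjugate. -/
theorem isConj_in {M : Subgroup G} {p q : G} (hpM : p ∈ M) (hqM : q ∈ M) (hp : orderOf p = 2)
    (hq : orderOf q = 2) {x y : Ω} (hpx : p • x = x) (hqy : q • y = y) (hxy : x ≠ y)
    {s t : G} (hsM : s ∈ M) (htM : t ∈ M) (hs : orderOf s = 2) (ht : orderOf t = 2) :
    ∃ m ∈ M, m * s * m⁻¹ = t := by
  have key : ∀ u : G, u ∈ M → orderOf u = 2 → ∃ m ∈ M, m * u * m⁻¹ = p := by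
    intro u huM hu
    obtain ⟨z, hz⟩ := h.exists_fix u hu
    by_cases hzx : z = x
    · obtain ⟨m, hm, hmu⟩ := exists_conj_in h huM hqM hu hq hz hqy (hzx ▸ hxy)
      obtain ⟨n, hn, hnq⟩ := exists_conj_in h hqM hpM hq hp hqy hpx hxy.symm
      exact ⟨n * m, mul_mem hn hm, by rw [← hnq, ← hmu]; group⟩
    · exact exists_conj_in h huM hpM hu hp hz hpx hzx
  obtain ⟨m, hm, hms⟩ := key s hsM hs
  obtain ⟨n, hn, hnt⟩ := key t htM ht
  refine ⟨n⁻¹ * m, mul_mem (inv_mem hn) hm, ?_⟩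
  calc n⁻¹ * m * s * (n⁻¹ * m)⁻¹ = n⁻¹ * (m * s * m⁻¹) * n := by group
    _ = t := by rw [hms, ← hnt]; group

/-- **L5**: a normal subgroup of even order of such a subgroup contains all its involutions. -/
theorem invol_mem_of_normal {M N : Subgroup G} (hNM : N ≤ M)
    (hMN : M ≤ Subgroup.normalizer (N : Set G)) {p q : G} (hpM : p ∈ M) (hqM : q ∈ M)
    (hp : orderOf p = 2) (hq : orderOf q = 2) {x y : Ω} (hpx : p • x = x) (hqy : q • y = y)
    (hxy : x ≠ y) (hN : Even (Nat.card N)) {t : G} (htM : t ∈ M) (ht : orderOf t = 2) : t ∈ N := by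
  obtain ⟨s, hsN, hs⟩ := exists_invol_mem hN
  obtain ⟨m, hm, hms⟩ := isConj_in h hpM hqM hp hq hpx hqy hxy (hNM hsN) htM hs ht
  rw [← hms]
  exact (Subgroup.mem_normalizer_iff.1 (hMN hm) s).1 hsN

/-- **L5**: a normal subgroup of odd order of a subgroup with a four group at `a` fixes `a`. -/
theorem le_stabilizer_of_normal_odd {M N V : Subgroup G} (hMN : M ≤ Subgroup.normalizer (N : Set G))
    (hN : Odd (Nat.card N)) (hV : IsFour V) {a : Ω} (hVa : V ≤ MulAction.stabilizer G a)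
    (hVM : V ≤ M) : N ≤ MulAction.stabilizer G a :=
  le_stabilizer_of_four h hV hVa hN (hVM.trans hMN)

end CfsgLib.SEmbed
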