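import Cfsg.Agent.S0225

/-!
# A simple group of even order which is not cyclic contains a four group

With the odd order theorem this gives: every non-cyclic finite simple group contains a four group.
-/

set_option autoImplicit false

namespace CfsgLib.SEmbed

open Subgroup

variable {G : Type*} [Group G] [Finite G]

/-- Burnside's transfer and the Brauer–Suzuki theorem, packaged. -/
theorem exists_kleinFour_of_even [IsSimpleGroup G] (heven : Even (Nat.card G)) (hG : ¬ IsCyclic G) :
    ∃ E : Subgroup G, IsKleinFour E := by
  by_contra h
  push Not at h
  obtain ⟨z, hz, N, hN, hodd, hc⟩ := Cfsg.Agent.S0225.result heven h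
  rcases hN.eq_bot_or_eq_top with rfl | rfl
  · have hcen : z ∈ center G := mem_center_iff.2 fun g => by
      have := hc g
      rw [mem_bot, mul_inv_eq_one, mul_inv_eq_iff_eq_mul] at this
      exact this.symm
    have htop : zpowers z = ⊤ := by
      have hn : (zpowers z).Normal := ⟨fun x hx g => by
        rw [mem_center_iff.1 (zpowers_le.2 hcen hx) g, mul_inv_cancel_right]
        exact hx⟩
      rcases hn.eq_bot_or_eq_top with h0 | h0
      · rw [zpowers_eq_bot] at h0
        rw [h0, orderOf_one] at hz
        exact absurd hz (by decide)
      · exact h0
    exact hG (isCyclic_iff_exists_zpowers_eq_top.2 ⟨z, htop⟩)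
  · rw [Subgroup.card_top] at hodd
    exact Nat.not_odd_iff_even.2 heven hodd

/-- S0204, given that groups of odd order are soluble. -/
theorem exists_kleinFour_of_odd_order_solvable [IsSimpleGroup G] (hFT : Odd (Nat.card G) → Group.IsSolvable G)
    (hG : ¬ IsCyclic G) : ∃ E : Subgroup G, IsKleinFour E := by
  rcases Nat.even_or_odd (Nat.card G) with h | h
  · exact exists_kleinFour_of_even h hG
  · haveI := hFT h
    exfalso
    apply hG
    have hc : ∀ a b : G, a * b = b * a := IsSimpleGroup.comm_iff_isSolvable.2 inferInstance
    letI : CommGroup G := { (inferInstance : Group G) with mul_comm := hc }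
    exact IsSimpleGroup.isCyclic

end CfsgLib.SEmbed
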