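import Cfsg.Agent.SEmbed.Cosets
import Cfsg.Prelude.Def_LieRecognition
import Cfsg.Agent.SEmbed.KleinFour
import Cfsg.Agent.Suzuki.Simple
import Cfsg.Agent.S0324
import Cfsg.Agent.EPPOFour.Main

/-!
# From a strongly embedded subgroup with a regular normal subgroup to the rank one set-up

The hypotheses of Suzuki's theorem (a simple group, a strongly embedded `H` with a normal subgroup
regular on the other cosets) give `Cfsg.IsRankOneSetup` on `G ⧸ H`.
-/

set_option autoImplicit false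
set_option maxHeartbeats 400000
set_option linter.style.haveILetI false

namespace CfsgLib.SEmbed

open CfsgLib.Small

universe u

variable {G : Type u} [Group G] [Finite G]

/-- The action on the cosets is a rank one set-up. -/
theorem exists_rankOne_setup (H : Subgroup G) (hH : Cfsg.IsStronglyEmbedded H) (Q : Subgroup G)
    (hQH : Q ≤ H) (hQn : (Q.subgroupOf H).Normal)
    (htrans : ∀ g₁ g₂ : G, g₁ ∉ H → g₂ ∉ H → ∃ u ∈ Q, g₂⁻¹ * (u * g₁) ∈ H)
    (hreg : ∀ g : G, g ∉ H → ∀ u ∈ Q, g⁻¹ * (u * g) ∈ H → u = 1) :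
    ∃ t : G, Cfsg.IsRankOneSetup G (G ⧸ H) ((1 : G) : G ⧸ H) t Q := by
  classical
  haveI : Fact (Nat.Prime 2) := ⟨Nat.prime_two⟩
  set a : G ⧸ H := ((1 : G) : G ⧸ H) with ha
  have U := uniqueFix hH
  have hstab : ∀ g : G, g • a = a ↔ g ∈ H := smul_one_eq_iff H
  have hstabH : MulAction.stabilizer G a = H :=
    Subgroup.ext fun g => by rw [MulAction.mem_stabilizer_iff, hstab]
  have hne : ∀ g : G, g ∉ H → (g : G ⧸ H) ≠ a := fun g hg h => hg (by
    have := QuotientGroup.eq.1 h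
    simpa using this)
  have hQtrans : ∀ x y : G ⧸ H, x ≠ a → y ≠ a → ∃ u ∈ Q, u • x = y := by
    intro x y
    induction x using QuotientGroup.induction_on with
    | _ g₁ =>
    induction y using QuotientGroup.induction_on with
    | _ g₂ =>
    intro h₁ h₂
    have hg : ∀ g : G, (g : G ⧸ H) ≠ a → g ∉ H := fun g h hm =>
      h (QuotientGroup.eq.2 (by simpa using inv_mem hm))
    obtain ⟨u, hu, h⟩ := htrans g₁ g₂ (hg g₁ h₁) (hg g₂ h₂)
    refine ⟨u, hu, ?_⟩
    rw [MulAction.Quotient.smul_mk, smul_eq_mul]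
    exact (QuotientGroup.eq.2 h).symm
  have hQreg : ∀ x : G ⧸ H, x ≠ a → ∀ u ∈ Q, u • x = x → u = 1 := by
    intro x
    induction x using QuotientGroup.induction_on with
    | _ g =>
    intro hx u hu h
    refine hreg g (fun hm => hx (QuotientGroup.eq.2 (by simpa using inv_mem hm))) u hu ?_
    rw [← mul_assoc]
    exact (smul_mk_eq_iff H u g).1 h
  haveI := nontrivial_cosets hH
  obtain ⟨x, hx⟩ := exists_ne a
  -- an involution moving `a`
  obtain ⟨i, hi, hix⟩ := U.exists_inv x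
  have hia : i • a ≠ a := fun h => hx (U.unique i hi x a hix h)
  have hii : i * i = 1 := by
    have := pow_orderOf_eq_one i
    rwa [hi, pow_two] at this
  have hi1 : i ≠ 1 := fun h => by rw [h, orderOf_one] at hi; norm_num at hi
  have hinv : ∀ h ∈ H, ∀ q ∈ Q, h * q * h⁻¹ ∈ Q := fun h hh q hq => by
    have := hQn.conj_mem ⟨q, hQH hq⟩ (Subgroup.mem_subgroupOf.2 hq) ⟨h, hh⟩
    simpa [Subgroup.mem_subgroupOf] using this
  refine ⟨i, ⟨?_, hii, hi1, fun h => hia h, hstabH.symm ▸ hQH,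
    hstabH.symm ▸ hinv, ?_, ?_, ?_, ?_⟩⟩
  · -- double transitivity
    rw [MulAction.is_two_pretransitive_iff]
    intro b c d e hbc hde
    obtain ⟨g, hg⟩ := MulAction.exists_smul_eq G b a
    obtain ⟨k, hk⟩ := MulAction.exists_smul_eq G d a
    obtain ⟨u, hu, huc⟩ := hQtrans (g • c) (k • e)
      (fun h => hbc (smul_left_cancel g (hg.trans h.symm)))
      (fun h => hde (smul_left_cancel k (hk.trans h.symm)))
    refine ⟨k⁻¹ * (u * g), ?_, ?_⟩
    · rw [mul_smul, mul_smul, hg, (hstab u).2 (hQH hu), inv_smul_eq_iff, hk]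
    · rw [mul_smul, mul_smul, huc, inv_smul_smul]
  · refine eq_bot_iff.2 fun q hq => ?_
    rw [Subgroup.mem_inf, MulAction.mem_stabilizer_iff] at hq
    exact Subgroup.mem_bot.2 (hQreg _ hia q hq.1 hq.2)
  · refine le_antisymm (sup_le (hstabH.symm ▸ hQH) inf_le_left) fun h hh => ?_
    have hha : h • a = a := hh
    obtain ⟨u, hu, huh⟩ := hQtrans (i • a) (h • i • a) hia
      (fun e => hia (smul_left_cancel h (e.trans hha.symm)))
    rw [show h = u * (u⁻¹ * h) by group]
    refine Subgroup.mul_mem_sup hu (Subgroup.mem_inf.2 ⟨?_, ?_⟩)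
    · exact mul_mem (inv_mem (hstabH.symm ▸ hQH hu)) hh
    · rw [MulAction.mem_stabilizer_iff, mul_smul, ← huh, inv_smul_smul]
  · -- `|Q|` is the number of other points
    obtain ⟨s, hs, hsa⟩ := U.exists_inv a
    let f : Q → {y : G ⧸ H // y ≠ a} := fun q => ⟨(q : G) • x, fun h => hx
      (smul_left_cancel (q : G) (h.trans ((hstab _).2 (hQH q.2)).symm))⟩
    have hbij : Function.Bijective f := by
      refine ⟨fun q q' h => ?_, fun y => ?_⟩
      · have hqq : (q : G) • x = (q' : G) • x := congrArg Subtype.val h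
        have := hQreg x hx _ (mul_mem (inv_mem q'.2) q.2)
          (by rw [mul_smul, hqq, inv_smul_smul])
        exact Subtype.ext (inv_mul_eq_one.1 this).symm
      · obtain ⟨u, hu, h⟩ := hQtrans x y.1 hx y.2
        exact ⟨⟨u, hu⟩, Subtype.ext h⟩
    rw [Nat.card_congr (Equiv.ofBijective f hbij)]
    have hp : IsPGroup 2 (Subgroup.zpowers s) :=
      IsPGroup.of_card (n := 1) (by rw [Nat.card_zpowers, hs, pow_one])
    have hfix : MulAction.fixedPoints (Subgroup.zpowers s) (G ⧸ H) = {a} := by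
      ext y
      refine ⟨fun hy => U.unique s hs y a (hy ⟨s, Subgroup.mem_zpowers s⟩) hsa, ?_⟩
      rintro rfl ⟨g, hg⟩
      exact (Subgroup.zpowers_le.2 (show s ∈ MulAction.stabilizer G a from hsa)) hg
    have hmod := hp.card_modEq_card_fixedPoints (G ⧸ H)
    rw [hfix, Nat.card_coe_set_eq, Set.ncard_singleton] at hmod
    haveI := Fintype.ofFinite (G ⧸ H)
    have hodd : Fintype.card (G ⧸ H) % 2 = 1 := by
      rw [← Nat.card_eq_fintype_card]; exact hmod
    rw [Nat.card_eq_fintype_card, Fintype.card_subtype_compl, Fintype.card_subtype_eq,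
      Nat.even_iff]
    omega
  · exact odd_pairStab U hia.symm

/-- The action of a simple group on the cosets of a proper subgroup is faithful. -/
theorem faithfulSMul_cosets [IsSimpleGroup G] {H : Subgroup G} (hH : H ≠ ⊤) :
    FaithfulSMul G (G ⧸ H) := by
  refine ⟨fun {g g'} h => ?_⟩
  rcases (Subgroup.normalCore_normal H).eq_bot_or_eq_top with hc | hc
  · have hk : g'⁻¹ * g ∈ (MulAction.toPermHom G (G ⧸ H)).ker := by
      rw [MonoidHom.mem_ker]
      ext x
      show (g'⁻¹ * g) • x = x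
      rw [mul_smul, h x, inv_smul_smul]
    rw [← Subgroup.normalCore_eq_ker, hc, Subgroup.mem_bot, inv_mul_eq_one] at hk
    exact hk.symm
  · exact absurd (top_le_iff.1 (hc ▸ Subgroup.normalCore_le H)) hH

/-- A simple group with a strongly embedded subgroup has two commuting involutions. -/
theorem exists_commuting_invols [IsSimpleGroup G] {H : Subgroup G} (hH : Cfsg.IsStronglyEmbedded H) :
    ∃ x y : G, x ≠ 1 ∧ y ≠ 1 ∧ x ≠ y ∧ x * x = 1 ∧ y * y = 1 ∧ x * y = y * x := by
  classical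
  have heven : Even (Nat.card G) := hH.2.1.trans_dvd (Subgroup.card_subgroup_dvd_card H)
  have hnc : ¬ IsCyclic G := fun hc => by
    letI := IsCyclic.commGroup (α := G)
    rcases (Subgroup.normal_of_comm H).eq_bot_or_eq_top with h | h
    · have := hH.2.1
      rw [h, Subgroup.card_bot] at this
      exact absurd this (by decide)
    · exact hH.1 h
  obtain ⟨E, hE⟩ := exists_kleinFour_of_even heven hnc
  haveI := hE
  haveI := Fintype.ofFinite E
  haveI : Nontrivial E := Fintype.one_lt_card_iff_nontrivial.1 (by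
    rw [← Nat.card_eq_fintype_card, IsKleinFour.card_four]; norm_num)
  obtain ⟨x, hx⟩ := exists_ne (1 : E)
  obtain ⟨y, hy, hyx⟩ : ∃ y : E, y ≠ 1 ∧ y ≠ x := by
    by_contra! h
    have hle : (Finset.univ : Finset E).card ≤ ({1, x} : Finset E).card := by
      refine Finset.card_le_card fun y _ => ?_
      by_cases hy : y = 1
      · simp [hy]
      · simp [h y hy]
    have h4 : Fintype.card E = 4 := by rw [← Nat.card_eq_fintype_card]; exact IsKleinFour.card_four
    rw [Finset.card_univ, h4] at hle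
    have := Finset.card_le_two (a := (1 : E)) (b := x)
    omega
  refine ⟨x, y, fun h => hx (Subtype.ext h), fun h => hy (Subtype.ext h),
    fun h => hyx (Subtype.ext h.symm), ?_, ?_, ?_⟩
  · exact congrArg Subtype.val (IsKleinFour.mul_self x)
  · exact congrArg Subtype.val (IsKleinFour.mul_self y)
  · exact congrArg Subtype.val (mul_comm_of_exponent_two IsKleinFour.exponent_two x y)

/-- **Suzuki's theorem on strongly embedded subgroups, given the rank one classification.** -/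
theorem classification_of_rankOne
    (h1136 : ∀ (G : Type u) [Group G] [Finite G] (Ω : Type u) [MulAction G Ω] [FaithfulSMul G Ω]
      (a : Ω) (t : G) (Q : Subgroup G), Cfsg.IsRankOneSetup G Ω a t Q →
      (∃ x y : G, x ≠ 1 ∧ y ≠ 1 ∧ x ≠ y ∧ x * x = 1 ∧ y * y = 1 ∧ x * y = y * x) →
      ∃ L : Subgroup G, L.Normal ∧ Odd L.index ∧
        ((∃ (F : Type) (_ : Field F) (_ : Fintype F), (∃ n : ℕ, 2 ≤ n ∧ Fintype.card F = 2 ^ n) ∧
            Nonempty (L ≃* Matrix.ProjectiveSpecialLinearGroup (Fin 2) F)) ∨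
          Cfsg.Lie.IsoSuzuki L ∨
          (∃ (F : Type) (_ : Field F) (_ : Fintype F) (n : ℕ), 2 ≤ n ∧
            Fintype.card F = (2 ^ n) ^ 2 ∧ Nonempty (L ≃* Cfsg.PSU 3 F (2 ^ n)))))
    [IsSimpleGroup G] (H : Subgroup G) (hH : Cfsg.IsStronglyEmbedded H) (Q : Subgroup G)
    (hQH : Q ≤ H) (hQn : (Q.subgroupOf H).Normal)
    (htrans : ∀ g₁ g₂ : G, g₁ ∉ H → g₂ ∉ H → ∃ u ∈ Q, g₂⁻¹ * (u * g₁) ∈ H)
    (hreg : ∀ g : G, g ∉ H → ∀ u ∈ Q, g⁻¹ * (u * g) ∈ H → u = 1) :
    (∃ (F : Type) (_ : Field F) (_ : Fintype F), CharP F 2 ∧ 4 ≤ Fintype.card F ∧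
        Nonempty (G ≃* Matrix.ProjectiveSpecialLinearGroup (Fin 2) F)) ∨
      Cfsg.IsSuzuki G ∨
      (∃ (F : Type) (_ : Field F) (_ : Fintype F) (q : ℕ), Fintype.card F = q ^ 2 ∧ Even q ∧ 4 ≤ q ∧
        Nonempty (G ≃* Cfsg.PSU 3 F q)) := by
  haveI := faithfulSMul_cosets hH.1
  obtain ⟨t, hS⟩ := exists_rankOne_setup H hH Q hQH hQn htrans hreg
  obtain ⟨L, hLn, hodd, hL⟩ := h1136 G (G ⧸ H) _ t Q hS (exists_commuting_invols hH)
  have hLtop : L = ⊤ := hLn.eq_bot_or_eq_top.resolve_left fun h => by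
    rw [h, Subgroup.index_bot] at hodd
    exact Nat.not_even_iff_odd.2 hodd (hH.2.1.trans_dvd (Subgroup.card_subgroup_dvd_card H))
  let eL : G ≃* L := Subgroup.topEquiv.symm.trans (MulEquiv.subgroupCongr hLtop.symm)
  rcases hL with ⟨F, iF, iT, ⟨n, hn, hF⟩, ⟨e⟩⟩ | ⟨F, iF, iT, m, hm, hF, ⟨e⟩⟩ |
      ⟨F, iF, iT, n, hn, hF, ⟨e⟩⟩
  · refine Or.inl ⟨F, iF, iT, ?_, ?_, ⟨MulEquiv.trans eL e⟩⟩
    · haveI : Fact (Nat.Prime 2) := ⟨Nat.prime_two⟩
      exact charP_of_card_eq_prime_pow hF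
    · rw [hF]; exact le_trans (by norm_num) (Nat.pow_le_pow_right two_pos hn)
  · refine Or.inr (Or.inl ⟨inferInstance, m, hm, ?_⟩)
    rw [Nat.card_congr (eL.trans e).toEquiv, CfsgLib.EPPOFour.card_lie_sz hm hF, hF]
  · refine Or.inr (Or.inr ⟨F, iF, iT, 2 ^ n, hF, ?_, ?_, ⟨MulEquiv.trans eL e⟩⟩)
    · exact even_two.pow_of_ne_zero (by omega)
    · exact le_trans (by norm_num) (Nat.pow_le_pow_right two_pos hn)

end CfsgLib.SEmbed
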