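import Cfsg.Agent.SEmbed.Elementary
import Cfsg.Agent.TwoGroups.IsolatedZStar

/-!
# The swap trick (L4)

`IsMaxPair p R a`: `R` is maximal among the `p`-subgroups fixing `a` and a second point.  Then
`U = N(R)` interchanges `a` and every other point `y` fixed by `R` by an involution, so either an
involution of `U` fixes `a`, or the fixed points of `R` are two points `a, b`, `R` is a Sylow
subgroup of the stabilizer of `a` and `N(R)` meets that stabilizer in odd order (`outside`).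
-/

set_option autoImplicit false
set_option linter.style.haveILetI false

namespace CfsgLib.SEmbed

open CfsgLib.Small Subgroup

variable {G : Type*} [Group G] {Ω : Type*} [MulAction G Ω]

/-- `R` is maximal among the `p`-subgroups fixing `a` and a second point. -/
structure IsMaxPair (p : ℕ) (R : Subgroup G) (a : Ω) : Prop where
  isPGroup : IsPGroup p R
  exists_second : ∃ y, y ≠ a ∧ R ≤ pairStab G a y
  max : ∀ P : Subgroup G, IsPGroup p P → ∀ y, y ≠ a → P ≤ pairStab G a y → R ≤ P → P = R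

/-- An involution normalizing `R` fixes `a`. -/
def Inside (R : Subgroup G) (a : Ω) : Prop :=
  ∃ i ∈ normalizer (R : Set G), i ∈ invMap (G := G) a a

/-- The points fixed by all elements of `R`. -/
def fixSet (R : Subgroup G) : Set Ω := {x | ∀ r ∈ R, r • x = x}

variable {p : ℕ} {R : Subgroup G} {a : Ω}

theorem IsMaxPair.mem_fixSet (hR : IsMaxPair p R a) : a ∈ fixSet (Ω := Ω) R := by
  obtain ⟨y, -, hy⟩ := hR.exists_second
  exact fun r hr => (mem_pairStab.1 (hy hr)).1

theorem le_pairStab_of_mem {y : Ω} (ha : a ∈ fixSet (Ω := Ω) R) (hy : y ∈ fixSet (Ω := Ω) R) :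
    R ≤ pairStab G a y := fun r hr => mem_pairStab.2 ⟨ha r hr, hy r hr⟩

theorem smul_mem_fixSet {g : G} (hg : g ∈ normalizer (R : Set G)) {x : Ω} (hx : x ∈ fixSet (Ω := Ω) R) :
    g • x ∈ fixSet (Ω := Ω) R := by
  intro r hr
  have h1 : g⁻¹ * r * g ∈ R := (mem_normalizer_iff''.1 hg r).1 hr
  calc r • g • x = g • (g⁻¹ * r * g) • x := by rw [smul_smul, smul_smul]; congr 1; group
    _ = g • x := by rw [hx _ h1]

variable [Finite G]

/-- The chosen maximal pair above a given `p`-group fixing two points. -/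
theorem exists_isMaxPair {P : Subgroup G} (hP : IsPGroup p P) {a y : Ω} (hy : y ≠ a)
    (hPy : P ≤ pairStab G a y) : ∃ R, P ≤ R ∧ IsMaxPair p R a := by
  obtain ⟨R, hPR, ⟨hRp, y', hy', hRy'⟩, hmax⟩ :=
    (Set.toFinite {Q : Subgroup G | IsPGroup p Q ∧ ∃ z, z ≠ a ∧ Q ≤ pairStab G a z}).exists_le_maximal
      ⟨hP, y, hy, hPy⟩
  exact ⟨R, hPR, hRp, ⟨y', hy', hRy'⟩, fun Q hQ z hz hQz hRQ =>
    le_antisymm (hmax ⟨hQ, z, hz, hQz⟩ hRQ) hRQ⟩

variable [Fact p.Prime] (h : UniqueFix G Ω)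
include h

theorem IsMaxPair.exists_swap (hR : IsMaxPair p R a) {y : Ω} (hy : y ∈ fixSet (Ω := Ω) R)
    (hya : y ≠ a) : ∃ u ∈ normalizer (R : Set G), u ∈ invMap (G := G) a y := by
  haveI : Fact (Nat.Prime 2) := ⟨Nat.prime_two⟩
  obtain ⟨s, hs, hsa⟩ := h.exists_inv a
  obtain ⟨t, ht, hty⟩ := h.exists_inv y
  obtain ⟨j, ⟨hj, hjay⟩, -⟩ := exists_interchange h hs ht hsa hty hya.symm
  set D := pairStab G a y with hD
  have hRD : R ≤ D := le_pairStab_of_mem hR.mem_fixSet hy
  have hjD : ∀ d ∈ D, j * d * j⁻¹ ∈ D := by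
    intro d hd
    obtain ⟨hda, hdy⟩ := mem_pairStab.1 hd
    rw [inv_eq_self_of_orderOf_two hj]
    exact mem_pairStab.2 ⟨by rw [mul_smul, mul_smul, hjay, hdy, smul_back hj hjay],
      by rw [mul_smul, mul_smul, smul_back hj hjay, hda, hjay]⟩
  -- `R` and its conjugate are Sylow subgroups of `D`
  let R' : Subgroup G := R.map (MulAut.conj j).toMonoidHom
  have hR'D : R' ≤ D := by rintro _ ⟨r, hr, rfl⟩; exact hjD r (hRD hr)
  have hR'p : IsPGroup p R' := hR.isPGroup.map _
  obtain ⟨P, hP⟩ := (hR.isPGroup.of_equiv (subgroupOfEquivOfLe hRD).symm).exists_le_sylow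
  obtain ⟨P', hP'⟩ := (hR'p.of_equiv (subgroupOfEquivOfLe hR'D).symm).exists_le_sylow
  have hPR : (P : Subgroup D).map D.subtype = R :=
    hR.max _ (P.isPGroup'.map _) y hya (map_subtype_le _) fun r hr => ⟨⟨r, hRD hr⟩, hP hr, rfl⟩
  obtain ⟨d, hd⟩ := MulAction.exists_smul_eq D P' P
  -- `u₀ = d j` normalizes `R`
  set u₀ : G := (d : G) * j with hu₀
  have hu₀R : ∀ r ∈ R, u₀ * r * u₀⁻¹ ∈ R := by
    intro r hr
    have hmem : (⟨j * r * j⁻¹, hjD r (hRD hr)⟩ : D) ∈ (P' : Subgroup D) :=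
      hP' ⟨r, hr, rfl⟩
    have h2 : d * ⟨j * r * j⁻¹, hjD r (hRD hr)⟩ * d⁻¹ ∈ (P : Subgroup D) := by
      rw [← hd]
      exact ⟨_, hmem, rfl⟩
    rw [← hPR]
    refine ⟨_, h2, ?_⟩
    show (d : G) * (j * r * j⁻¹) * (d : G)⁻¹ = u₀ * r * u₀⁻¹
    rw [hu₀]; group
  have hu₀N : u₀ ∈ normalizer (R : Set G) := by
    have hle : R.map (MulAut.conj u₀).toMonoidHom ≤ R := by
      rintro _ ⟨r, hr, rfl⟩; exact hu₀R r hr
    have heq := eq_of_le_of_card_ge hle
      (Nat.card_congr (R.equivMapOfInjective _ (MulAut.conj u₀).injective).toEquiv).le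
    rw [mem_normalizer_iff]
    intro r
    refine ⟨hu₀R r, fun hr => ?_⟩
    rw [← heq] at hr
    obtain ⟨r', hr', e⟩ := hr
    change u₀ * r' * u₀⁻¹ = u₀ * r * u₀⁻¹ at e
    rwa [← mul_left_cancel (mul_right_cancel e)]
  have hda := mem_pairStab.1 d.2
  have ha1 : u₀ • a = y := by rw [hu₀, mul_smul, hjay, hda.2]
  have hy1 : u₀ • y = a := by rw [hu₀, mul_smul, smul_back hj hjay, hda.1]
  -- pass to the 2-part
  obtain ⟨k, m, hm, hkm⟩ := Nat.exists_eq_two_pow_mul_odd (orderOf_pos u₀).ne'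
  have hsq : ∀ i : ℕ, (u₀ * u₀) ^ i • a = a ∧ (u₀ * u₀) ^ i • y = y := by
    intro i
    induction i with
    | zero => simp
    | succ i ih =>
      rw [pow_succ, mul_smul ((u₀ * u₀) ^ i) (u₀ * u₀), mul_smul u₀ u₀, mul_smul ((u₀ * u₀) ^ i) (u₀ * u₀), mul_smul u₀ u₀, ha1, hy1, ha1]
      exact ⟨ih.1, by simpa using ih.2⟩
  obtain ⟨i, hi⟩ := hm
  have hva : u₀ ^ m • a = y := by
    rw [hi, pow_succ, mul_smul, ha1, pow_mul, sq]
    exact (hsq i).2
  have hvo : orderOf (u₀ ^ m) = 2 ^ k := by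
    rw [orderOf_pow_of_dvd (by omega) (hkm ▸ dvd_mul_left m _), hkm,
      Nat.mul_div_cancel _ (by omega)]
  have hk1 : k = 1 := by
    rcases k with _ | _ | k
    · rw [pow_zero, orderOf_eq_one_iff] at hvo
      rw [hvo, one_smul] at hva
      exact absurd hva hya.symm
    · rfl
    · exfalso
      set w := (u₀ ^ m) ^ 2 ^ (k + 1) with hw
      have hwo : orderOf w = 2 := by
        rw [hw, orderOf_pow_of_dvd (by positivity) (hvo ▸ pow_dvd_pow 2 (by omega)), hvo,
          Nat.pow_div (by omega) two_pos, show k + 1 + 1 - (k + 1) = 1 by omega, pow_one]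
      have hwsq : w = (u₀ * u₀) ^ (m * 2 ^ k) := by
        rw [hw, ← sq, ← pow_mul, ← pow_mul]; congr 1; ring
      exact hya (h.unique w hwo a y (by rw [hwsq]; exact (hsq _).1) (by rw [hwsq]; exact (hsq _).2)).symm
  exact ⟨u₀ ^ m, pow_mem hu₀N m, by rw [hvo, hk1, pow_one], hva⟩

/-- `N(R)` is transitive on the fixed points of `R`. -/
theorem IsMaxPair.exists_smul_eq (hR : IsMaxPair p R a) {y : Ω} (hy : y ∈ fixSet (Ω := Ω) R) :
    ∃ u ∈ normalizer (R : Set G), u • a = y := by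
  by_cases hya : y = a
  · exact ⟨1, one_mem _, by rw [one_smul, hya]⟩
  · obtain ⟨u, hu, hu'⟩ := hR.exists_swap h hy hya
    exact ⟨u, hu, hu'.2⟩

/-- In the outside case the involutions of `N(R)` fix no fixed point of `R`. -/
theorem IsMaxPair.not_fix (hR : IsMaxPair p R a) (hout : ¬ Inside R a) {i : G}
    (hi : i ∈ normalizer (R : Set G)) (hio : orderOf i = 2) {y : Ω} (hy : y ∈ fixSet (Ω := Ω) R) :
    i • y ≠ y := by
  intro hiy
  obtain ⟨u, hu, hua⟩ := hR.exists_smul_eq h hy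
  refine hout ⟨u⁻¹ * i * u, mul_mem (mul_mem (inv_mem hu) hi) hu, ?_, ?_⟩
  · have := orderOf_conj_eq u⁻¹ i
    rwa [inv_inv, hio] at this
  · rw [mul_smul, mul_smul, hua, hiy, inv_smul_eq_iff, hua]

/-- In the outside case with `p` odd, `N(R)` contains no four group. -/
theorem IsMaxPair.not_four (hR : IsMaxPair p R a) (hp : p ≠ 2) (hout : ¬ Inside R a)
    (V : Subgroup G) (hV : IsFour V) : ¬ V ≤ normalizer (R : Set G) := by
  intro hVN
  obtain ⟨c, hc⟩ := IsFour.exists_point h hV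
  have hodd : Odd (Nat.card R) := by
    obtain ⟨e, he⟩ := IsPGroup.iff_card.1 hR.isPGroup
    rw [he]
    exact (Nat.Prime.odd_of_ne_two (Fact.out : p.Prime) hp).pow
  obtain ⟨v, hv, hvo⟩ := hV.exists_invol
  exact hR.not_fix h hout (hVN hv) hvo (fun r hr => le_stabilizer_of_four h hV hc hodd hVN hr) (hc hv)

/-- `N(R)` meets the stabilizer of `a` in odd order, outside. -/
theorem IsMaxPair.odd_normalizer_inf (hR : IsMaxPair p R a) (hout : ¬ Inside R a) :
    Odd (Nat.card ↥(normalizer (R : Set G) ⊓ MulAction.stabilizer G a)) := by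
  by_contra hodd
  obtain ⟨i, hi, hio⟩ := exists_invol_mem (Nat.not_odd_iff_even.1 hodd)
  exact hR.not_fix h hout hi.1 hio hR.mem_fixSet hi.2

/-- **L4, outside case**: `R` fixes just two points and is a Sylow subgroup of the stabilizer. -/
theorem IsMaxPair.outside (hR : IsMaxPair p R a) (hp : p ≠ 2) (hout : ¬ Inside R a) :
    ∃ b, b ≠ a ∧ fixSet (Ω := Ω) R = {a, b} ∧
      (∀ P : Subgroup G, IsPGroup p P → R ≤ P → P ≤ MulAction.stabilizer G a → P = R) := by
  obtain ⟨b₀, hb₀a, hb₀⟩ := hR.exists_second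
  have hb₀F : b₀ ∈ fixSet (Ω := Ω) R := fun r hr => (mem_pairStab.1 (hb₀ hr)).2
  obtain ⟨w, hwN, hwo, hwb⟩ := hR.exists_swap h hb₀F hb₀a
  set U := normalizer (R : Set G) with hU
  -- `w` is an isolated involution of `U`
  have hiso : Cfsg.IsIsolatedInvolution (⟨w, hwN⟩ : U) := by
    refine ⟨by rw [Subgroup.orderOf_mk, hwo], fun g hg => ?_⟩
    by_contra hne
    let w' : G := (g : G) * w * (g : G)⁻¹
    have hw'o : orderOf w' = 2 := (orderOf_conj_eq _ _).trans hwo
    have hw'N : w' ∈ U := mul_mem (mul_mem g.2 hwN) (inv_mem g.2)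
    have hcomm : Commute w w' := congrArg Subtype.val hg.eq
    have hne' : w ≠ w' := fun e => hne (Subtype.ext e.symm)
    refine hR.not_four h hp hout _ (isFour_closure_pair hwo hw'o hne' hcomm)
      ((closure_le _).2 ?_)
    rintro x (rfl | rfl)
    exacts [hwN, hw'N]
  have hOn : (Cfsg.oddCore U).Normal := inferInstance
  set O := (Cfsg.oddCore U).map U.subtype with hO
  have hOU : O ≤ U := map_subtype_le _
  have hOnorm : ∀ g ∈ U, ∀ o ∈ O, g * o * g⁻¹ ∈ O := by
    rintro g hg _ ⟨o, ho, rfl⟩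
    exact ⟨⟨g, hg⟩ * o * ⟨g, hg⟩⁻¹, hOn.conj_mem o ho _, rfl⟩
  have hF2 : ∀ y ∈ fixSet (Ω := Ω) R, y ≠ a → ∃ o ∈ O, o • w • a = y := by
    intro y hy hya
    obtain ⟨u, hu, huo, huy⟩ := hR.exists_swap h hy hya
    -- `u` is `w` up to an element of `O`
    have hconj : ∃ g ∈ U, g * w * g⁻¹ = u := by
      -- `⟨w, u⟩` contains no four group, so `w u` has odd order
      by_contra hne
      rcases Nat.even_or_odd (orderOf (w * u)) with hev | hod
      · obtain ⟨hz, hzw, hzu⟩ := half_pow_spec hwo huo hev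
        set z := (w * u) ^ (orderOf (w * u) / 2) with hzdef
        have hzU : z ∈ U := pow_mem (mul_mem hwN hu) _
        by_cases hzwe : z = w
        · by_cases hwu : w = u
          · exact hne ⟨1, one_mem _, by rw [hwu]; group⟩
          · refine hR.not_four h hp hout _ (isFour_closure_pair hwo huo hwu (hzwe ▸ hzu))
              ((closure_le _).2 ?_)
            rintro x (rfl | rfl)
            exacts [hwN, hu]
        · refine hR.not_four h hp hout _ (isFour_closure_pair hz hwo hzwe hzw) ((closure_le _).2 ?_)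
          rintro x (rfl | rfl)
          exacts [hzU, hwN]
      · obtain ⟨k, hk⟩ := conj_pow_eq_of_odd hwo huo hod
        exact hne ⟨_, pow_mem (mul_mem hwN hu) k, hk⟩
    obtain ⟨g, hg, hgu⟩ := hconj
    obtain ⟨o, ho, c, hc, hgc⟩ := CfsgLib.TwoGroups.exists_mul_centralizer hiso ⟨g, hg⟩
    have hgc' : g = (o : G) * c := congrArg Subtype.val hgc
    have hcw : (c : G) * w = w * c := congrArg Subtype.val (mem_centralizer_singleton_iff.1 hc)
    have hu' : u = ((o : G) * (w * (o : G)⁻¹ * w⁻¹)) * w := by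
      rw [← hgu, hgc']
      calc (o : G) * c * w * ((o : G) * c)⁻¹ = (o : G) * ((c : G) * w) * (c : G)⁻¹ * (o : G)⁻¹ := by
            group
        _ = _ := by rw [hcw]; group
    refine ⟨(o : G) * (w * (o : G)⁻¹ * w⁻¹), mul_mem ⟨o, ho, rfl⟩
      (hOnorm w hwN _ (inv_mem ⟨o, ho, rfl⟩)), ?_⟩
    rw [← mul_smul, ← hu', huy]
  -- the orbit of `a` under `O` is `{a}`
  have hOodd : Odd (Nat.card O) := by
    rw [hO, Nat.card_congr ((Cfsg.oddCore U).equivMapOfInjective _ U.subtype_injective).symm.toEquiv]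
    exact CfsgLib.TwoGroups.odd_card_oddCore
  have hsep : ∀ o ∈ O, o • a ≠ w • a := by
    intro o ho he
    -- then `O` is transitive on `F`, whose cardinality is even
    let F : Set Ω := fixSet (Ω := Ω) R
    have horb : F = MulAction.orbit O a := by
      ext y
      constructor
      · intro hy
        by_cases hya : y = a
        · rw [hya]; exact MulAction.mem_orbit_self a
        · obtain ⟨o', ho', hoy⟩ := hF2 y hy hya
          exact ⟨⟨o' * o, mul_mem ho' ho⟩, by
            show (o' * o) • a = y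
            rw [mul_smul, he, hoy]⟩
      · rintro ⟨o', rfl⟩
        exact smul_mem_fixSet (hOU o'.2) hR.mem_fixSet
    have hcardF : Odd (Nat.card F) := by
      rw [horb, Nat.card_congr (MulAction.orbitEquivQuotientStabilizer O a), ← Subgroup.index_eq_card]
      exact hOodd.of_dvd_nat (Subgroup.index_dvd_card _)
    -- but `w` acts on `F` without fixed points
    haveI := finite_points h
    haveI : Fact (Nat.Prime 2) := ⟨Nat.prime_two⟩
    letI : MulAction (zpowers w) F := {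
      smul := fun g x => ⟨(g : G) • x.1, smul_mem_fixSet ((zpowers_le.2 hwN) g.2) x.2⟩
      one_smul := fun x => Subtype.ext (one_smul G x.1)
      mul_smul := fun g g' x => Subtype.ext (mul_smul (g : G) (g' : G) x.1) }
    have hp2 : IsPGroup 2 (zpowers w) :=
      IsPGroup.of_card (n := 1) (by rw [Nat.card_zpowers, hwo, pow_one])
    obtain ⟨x, hx⟩ := hp2.nonempty_fixed_point_of_prime_not_dvd_card F hcardF.not_two_dvd_nat
    exact hR.not_fix h hout hwN hwo x.2 (congrArg Subtype.val (hx ⟨w, mem_zpowers w⟩))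
  have hfix : ∀ o ∈ O, o • a = a := by
    intro o ho
    by_contra hne
    obtain ⟨o', ho', he⟩ := hF2 _ (smul_mem_fixSet (hOU ho) hR.mem_fixSet) hne
    refine hsep (o'⁻¹ * o) (mul_mem (inv_mem ho') ho) ?_
    rw [mul_smul, ← he, inv_smul_smul]
  refine ⟨b₀, hb₀a, ?_, ?_⟩
  · ext y
    refine ⟨fun hy => ?_, ?_⟩
    · by_cases hya : y = a
      · exact Or.inl hya
      · obtain ⟨o, ho, he⟩ := hF2 y hy hya
        right
        rw [← he, ← hwb, ← mul_smul, show o * w = w * (w⁻¹ * o * w⁻¹⁻¹) by group, mul_smul,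
          hfix _ (hOnorm w⁻¹ (inv_mem hwN) o ho), Set.mem_singleton_iff]
    · rintro (rfl | rfl)
      exacts [hR.mem_fixSet, hb₀F]
  · intro P hP hRP hPa
    by_contra hne
    have hlt : R.subgroupOf P < ⊤ := lt_top_iff_ne_top.2 fun e =>
      hne (le_antisymm (Subgroup.subgroupOf_eq_top.1 e) hRP)
    haveI : Group.IsNilpotent P := hP.isNilpotent
    obtain ⟨x, hxN, hxR⟩ := SetLike.exists_of_lt (normalizerCondition_of_isNilpotent (G := P) _ hlt)
    have hxN' : (x : G) ∈ U := by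
      rw [hU, mem_normalizer_iff]
      intro r
      constructor
      · intro hr
        exact (mem_normalizer_iff.1 hxN ⟨r, hRP hr⟩).1 hr
      · intro hr
        have hrP : r ∈ P := by
          have := mul_mem (mul_mem (inv_mem x.2) (hRP hr)) x.2
          rwa [show (x : G)⁻¹ * ((x : G) * r * (x : G)⁻¹) * x = r by group] at this
        exact (mem_normalizer_iff.1 hxN ⟨r, hrP⟩).2 hr
    let Q : Subgroup G := R ⊔ zpowers (x : G)
    have hQP : Q ≤ P := sup_le hRP (zpowers_le.2 x.2)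
    have hxb : (x : G) • b₀ = b₀ := by
      have hxa : (x : G) • a = a := hPa x.2
      have hmem := smul_mem_fixSet hxN' hb₀F
      by_contra hne2
      have h1 : (x : G) • b₀ ≠ a := fun e => hb₀a (smul_left_cancel (x : G) (e.trans hxa.symm))
      obtain ⟨o, ho, he⟩ := hF2 _ hmem h1
      apply hne2
      rw [← he, ← hwb, ← mul_smul, show o * w = w * (w⁻¹ * o * w⁻¹⁻¹) by group, mul_smul,
        hfix _ (hOnorm w⁻¹ (inv_mem hwN) o ho)]
    have hQ : Q = R := hR.max Q (hP.to_le hQP) b₀ hb₀a (sup_le hb₀ (zpowers_le.2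
      (mem_pairStab.2 ⟨hPa x.2, hxb⟩))) le_sup_left
    exact hxR (hQ ▸ mem_sup_right (mem_zpowers (x : G)) : (x : G) ∈ R)

/-- Outside, `p` divides the number of involutions at `a`, provided `R ≠ 1`. -/
theorem IsMaxPair.dvd_card (hR : IsMaxPair p R a) (hout : ¬ Inside R a) :
    p ∣ Nat.card (invMap (G := G) a a) := by
  by_contra hndvd
  letI : MulAction R (invMap (G := G) a a) := {
    smul := fun r i => ⟨(r : G) * i.1 * (r : G)⁻¹,
      conj_mem_invMap (show (r : G) ∈ MulAction.stabilizer G a from hR.mem_fixSet r r.2) i.2⟩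
    one_smul := fun i => Subtype.ext (by show (1 : G) * i.1 * (1 : G)⁻¹ = i.1; group)
    mul_smul := fun r r' i => Subtype.ext (by
      show ((r * r' : R) : G) * i.1 * ((r * r' : R) : G)⁻¹ =
        (r : G) * ((r' : G) * i.1 * (r' : G)⁻¹) * (r : G)⁻¹
      rw [Subgroup.coe_mul]; group) }
  obtain ⟨i, hi⟩ := hR.isPGroup.nonempty_fixed_point_of_prime_not_dvd_card _ hndvd
  refine hout ⟨i.1, ?_, i.2⟩
  have hc : ∀ r ∈ R, i.1 * r = r * i.1 := fun r hr => by
    have h' : r * i.1 * r⁻¹ = i.1 := congrArg Subtype.val (hi ⟨r, hr⟩)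
    exact (mul_inv_eq_iff_eq_mul.1 h').symm
  rw [mem_normalizer_iff]
  intro r
  constructor
  · intro hr
    rw [hc r hr, mul_inv_cancel_right]; exact hr
  · intro hr
    have h1 : i.1 * (i.1 * r * i.1⁻¹) * i.1⁻¹ = i.1 * r * i.1⁻¹ := by
      rw [hc _ hr, mul_inv_cancel_right]
    rwa [mul_left_cancel (mul_right_cancel h1)] at hr

end CfsgLib.SEmbed
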