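import Cfsg.Agent.SEmbed.Cosets

/-!
# Involution centralizers that are elementary abelian 2-groups

`T` is a Sylow 2-subgroup which is neither cyclic nor normal and every involution centralizer is
elementary abelian.  The action on the cosets of `N(T)` is analysed: sharply 3-transitive.
-/

namespace CfsgLib.SEmbed

open CfsgLib.Small Subgroup

variable {G : Type*} [Group G]

/-- The hypothesis of the Brauer–Suzuki–Wall situation with trivial odd part. -/
structure ElemCentralizers (T : Sylow 2 G) : Prop where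
  not_cyclic : ¬ IsCyclic (T : Subgroup G)
  not_normal : ¬ (T : Subgroup G).Normal
  centralizer : ∀ t : G, orderOf t = 2 →
    IsMulCommutative (Subgroup.centralizer ({t} : Set G)) ∧
      ∀ c ∈ Subgroup.centralizer ({t} : Set G), c ^ 2 = 1

variable [Finite G] {T : Sylow 2 G} (h : ElemCentralizers T)
include h

theorem exists_invol : ∃ t ∈ T, orderOf t = 2 := by
  haveI : Fact (Nat.Prime 2) := ⟨Nat.prime_two⟩
  refine exists_invol_mem (K := (T : Subgroup G)) ?_
  obtain ⟨n, hn⟩ := IsPGroup.iff_card.1 T.isPGroup'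
  rw [hn, Nat.even_pow]
  refine ⟨even_two, fun h0 => h.not_cyclic ?_⟩
  rw [h0, pow_zero, Subgroup.card_eq_one] at hn
  rw [hn]; infer_instance

theorem abelian_exp_two : (∀ a ∈ T, ∀ b ∈ T, a * b = b * a) ∧ ∀ a ∈ T, a * a = 1 := by
  haveI : Fact (Nat.Prime 2) := ⟨Nat.prime_two⟩
  haveI : Nontrivial (T : Subgroup G) := by
    obtain ⟨t, htT, ht⟩ := exists_invol h
    exact (Subgroup.nontrivial_iff_ne_bot _).2
      (fun hb => ne_one_of_orderOf_two ht (by
        have h1 : t ∈ (T : Subgroup G) := htT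
        rw [hb] at h1; exact Subgroup.mem_bot.1 h1))
  haveI : Nontrivial (Subgroup.center (T : Subgroup G)) := T.isPGroup'.center_nontrivial
  obtain ⟨z, hz⟩ := exists_prime_orderOf_dvd_card'
    (G := Subgroup.center (T : Subgroup G)) 2
      (by
        obtain ⟨n, hn⟩ := IsPGroup.iff_card.1
          (T.isPGroup'.to_subgroup (Subgroup.center (T : Subgroup G)))
        rw [hn]
        refine dvd_pow_self 2 fun h0 => ?_
        have := Finite.one_lt_card (α := Subgroup.center (T : Subgroup G))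
        rw [hn, h0] at this
        simp at this)
  have hzG : orderOf (((z : (T : Subgroup G)) : G)) = 2 := by
    rw [Subgroup.orderOf_coe, Subgroup.orderOf_coe, hz]
  have hle : ∀ a ∈ T, a ∈ Subgroup.centralizer ({((z : (T : Subgroup G)) : G)} : Set G) := by
    intro a ha
    rw [Subgroup.mem_centralizer_singleton_iff]
    exact congrArg Subtype.val (Subgroup.mem_center_iff.1 z.2 ⟨a, ha⟩)
  obtain ⟨hc, h2⟩ := h.centralizer _ hzG
  refine ⟨fun a ha b hb => congrArg Subtype.val (mul_comm' (⟨a, hle a ha⟩ :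
    Subgroup.centralizer ({((z : (T : Subgroup G)) : G)} : Set G)) ⟨b, hle b hb⟩), fun a ha => ?_⟩
  rw [← sq]; exact h2 a (hle a ha)

/-- The centralizer of an involution of `T` is `T`. -/
theorem centralizer_eq {t : G} (htT : t ∈ T) (ht : orderOf t = 2) :
    Subgroup.centralizer ({t} : Set G) = (T : Subgroup G) := by
  refine T.is_maximal' (fun c => ⟨1, Subtype.ext ?_⟩) fun a ha => ?_
  · simpa using (h.centralizer t ht).2 c c.2
  · rw [Subgroup.mem_centralizer_singleton_iff]; exact (abelian_exp_two h).1 a ha t htT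

omit h in
theorem invol_mem_of_mem_normalizer {i : G} (hi : orderOf i = 2)
    (hN : i ∈ normalizer ((T : Subgroup G) : Set G)) : i ∈ T := by
  haveI : Fact (Nat.Prime 2) := ⟨Nat.prime_two⟩
  have hp : IsPGroup 2 (zpowers i) :=
    IsPGroup.of_card (n := 1) (by rw [Nat.card_zpowers, hi, pow_one])
  have := T.is_maximal' (hp.to_sup_of_normal_right' T.isPGroup' (zpowers_le.2 hN))
    le_sup_right
  exact this.le (mem_sup_left (mem_zpowers i))

omit h in
theorem mem_normalizer_iff_smul (g : G) :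
    g ∈ normalizer ((T : Subgroup G) : Set G) ↔
      (g : G ⧸ normalizer ((T : Subgroup G) : Set G)) =
        ((1 : G) : G ⧸ normalizer ((T : Subgroup G) : Set G)) := by
  rw [eq_comm, QuotientGroup.eq, inv_one, one_mul]

theorem stronglyEmbedded : Cfsg.IsStronglyEmbedded (normalizer ((T : Subgroup G) : Set G)) := by
  haveI : Fact (Nat.Prime 2) := ⟨Nat.prime_two⟩
  have hne : normalizer ((T : Subgroup G) : Set G) ≠ ⊤ := fun he =>
    h.not_normal (Subgroup.normalizer_eq_top_iff.1 he)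
  obtain ⟨t, htT, ht⟩ := exists_invol h
  have heven : Even (Nat.card (normalizer ((T : Subgroup G) : Set G))) := by
    rw [even_iff_two_dvd]
    have h1 := Subgroup.orderOf_dvd_natCard _ (le_normalizer (H := (T : Subgroup G)) htT)
    rwa [ht] at h1
  rw [isStronglyEmbedded_iff hne heven]
  intro i hi ho g hg
  have hiT := invol_mem_of_mem_normalizer ho hi
  have ho' : orderOf (g⁻¹ * i * g) = 2 := by
    have := orderOf_conj_eq g⁻¹ i
    rwa [inv_inv, ho] at this
  have hjT := invol_mem_of_mem_normalizer ho' hg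
  have hC := centralizer_eq h hiT ho
  have hC' := centralizer_eq h hjT ho'
  rw [mem_normalizer_iff]
  intro a
  have key : ∀ {j : G}, Subgroup.centralizer ({j} : Set G) = (T : Subgroup G) →
      ∀ b : G, b ∈ (T : Subgroup G) ↔ b * j = j * b := fun {j} e b => by
    rw [← e, mem_centralizer_singleton_iff]
  change a ∈ (T : Subgroup G) ↔ g * a * g⁻¹ ∈ (T : Subgroup G)
  rw [key hC', key hC]
  constructor <;> intro e
  · calc g * a * g⁻¹ * i = g * (a * (g⁻¹ * i * g)) * g⁻¹ := by group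
      _ = g * (g⁻¹ * i * g * a) * g⁻¹ := by rw [e]
      _ = i * (g * a * g⁻¹) := by group
  · calc a * (g⁻¹ * i * g) = g⁻¹ * (g * a * g⁻¹ * i) * g := by group
      _ = g⁻¹ * (i * (g * a * g⁻¹)) * g := by rw [e]
      _ = g⁻¹ * i * g * a := by group

omit h in
/-- The base point. -/
abbrev base (T : Sylow 2 G) : G ⧸ normalizer ((T : Subgroup G) : Set G) := ((1 : G) : G ⧸ _)

local notation "Ω" => G ⧸ normalizer ((T : Subgroup G) : Set G)

theorem uf : UniqueFix G Ω := uniqueFix (stronglyEmbedded h)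

omit h in
theorem smul_base_iff {g : G} : g • base T = base T ↔ g ∈ normalizer ((T : Subgroup G) : Set G) :=
  smul_one_eq_iff _ g

theorem mem_invMap_base {t : G} :
    t ∈ invMap (G := G) (base T) (base T) ↔ t ∈ T ∧ t ≠ 1 := by
  constructor
  · rintro ⟨ht, hfix⟩
    exact ⟨invol_mem_of_mem_normalizer ht (smul_base_iff.1 hfix), ne_one_of_orderOf_two ht⟩
  · rintro ⟨htT, hne⟩
    exact ⟨orderOf_eq_two_iff_sq.2 ⟨hne, (abelian_exp_two h).2 t htT⟩,
      smul_base_iff.2 (le_normalizer htT)⟩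

/-- No nontrivial element of a two point stabilizer commutes with an involution. -/
theorem eq_one_of_commute {x y : Ω} (hxy : x ≠ y) {d t : G} (hd : d ∈ pairStab G x y)
    (ht : orderOf t = 2) (hc : Commute d t) : d = 1 := by
  have h2 := (h.centralizer t ht).2 d (mem_centralizer_singleton_iff.2 hc)
  obtain ⟨k, hk⟩ := (odd_pairStab (uf h) hxy).of_dvd_nat (Subgroup.orderOf_dvd_natCard _ hd)
  have := pow_orderOf_eq_one d
  rwa [hk, pow_succ, pow_mul, h2, one_pow, one_mul] at this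

theorem card_invMap_base :
    Nat.card (invMap (G := G) (base T) (base T)) = Nat.card T - 1 := by
  classical
  have e : invMap (G := G) (base T) (base T) = ((T : Subgroup G) : Set G) \ {1} := by
    ext t; exact mem_invMap_base h
  rw [e, Nat.card_coe_set_eq, Set.ncard_diff_singleton_of_mem (one_mem (T : Subgroup G)),
    ← Nat.card_coe_set_eq]
  rfl

theorem card_pairStab {x y : Ω} (hxy : x ≠ y) :
    Nat.card (pairStab G x y) = Nat.card T - 1 := by
  rw [← card_invMap_base h, card_invMap_self (uf h) (base T) x]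
  obtain ⟨s, hs, hsx⟩ := (uf h).exists_inv x
  have hmem : ∀ d : pairStab G x y, (d : G) * s * (d : G)⁻¹ ∈ invMap (G := G) x x := by
    intro d
    refine ⟨by rw [orderOf_conj_eq, hs], ?_⟩
    have hd := (mem_pairStab.1 d.2).1
    rw [mul_smul, mul_smul, show (d : G)⁻¹ • x = x from inv_smul_eq_iff.2 hd.symm, hsx, hd]
  refine Nat.card_eq_of_bijective (fun d => ⟨_, hmem d⟩) ⟨?_, ?_⟩
  · intro d d' he
    have he' : (d : G) * s * (d : G)⁻¹ = (d' : G) * s * (d' : G)⁻¹ := congrArg Subtype.val he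
    have hc : Commute ((d'⁻¹ * d : pairStab G x y) : G) s := by
      show (d' : G)⁻¹ * d * s = s * ((d' : G)⁻¹ * d)
      calc (d' : G)⁻¹ * d * s = (d' : G)⁻¹ * ((d : G) * s * (d : G)⁻¹) * d := by group
        _ = s * ((d' : G)⁻¹ * d) := by rw [he']; group
    have := eq_one_of_commute h hxy (d'⁻¹ * d : pairStab G x y).2 hs hc
    exact (inv_mul_eq_one.1 (Subtype.ext this : d'⁻¹ * d = 1)).symm
  · intro t
    obtain ⟨d, hd, e⟩ := exists_conj_fix (uf h) hxy ⟨hs, hsx⟩ t.2
    exact ⟨⟨d, hd⟩, Subtype.ext e⟩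

theorem two_lt_card : 2 < Nat.card T := by
  haveI : Fact (Nat.Prime 2) := ⟨Nat.prime_two⟩
  obtain ⟨t, htT, ht⟩ := exists_invol h
  have h2 : 2 ∣ Nat.card T := by
    have h1 := Subgroup.orderOf_dvd_natCard (T : Subgroup G) htT
    rwa [ht] at h1
  have hpos : 0 < Nat.card T := Nat.card_pos
  have hne : Nat.card T ≠ 2 := fun e => h.not_cyclic (isCyclic_of_prime_card (p := 2) e)
  omega

theorem exists_ne_one {x y : Ω} (hxy : x ≠ y) : ∃ d ∈ pairStab G x y, d ≠ 1 := by
  by_contra hc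
  push Not at hc
  have := Subgroup.card_eq_one.2 ((eq_bot_iff_forall _).2 hc)
  have h2 := two_lt_card h
  rw [card_pairStab h hxy] at this
  omega

theorem interchange_inverts {x y : Ω} (hxy : x ≠ y) {i d : G} (hi : i ∈ invMap (G := G) x y)
    (hd : d ∈ pairStab G x y) : i * d * i⁻¹ = d⁻¹ := by
  have hcard : Nat.card (invMap (G := G) x y) = Nat.card (pairStab G x y) := by
    rw [card_invMap_eq (uf h) hxy, card_invMap_self (uf h) x (base T), card_invMap_base h,
      card_pairStab h hxy]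
  have hm : ∀ j : invMap (G := G) x y, i * (j : G) ∈ pairStab G x y := fun j => mem_pairStab.2
    ⟨by rw [mul_smul, j.2.2, smul_back hi.1 hi.2],
      by rw [mul_smul, smul_back j.2.1 j.2.2, hi.2]⟩
  obtain ⟨j, hj⟩ := ((Nat.bijective_iff_injective_and_card
    (fun j => (⟨_, hm j⟩ : pairStab G x y))).2 ⟨fun a b e =>
      Subtype.ext (mul_left_cancel (congrArg Subtype.val e)), hcard⟩).2 ⟨d, hd⟩
  have hj' : i * (j : G) = d := congrArg Subtype.val hj
  rw [← hj', mul_inv_rev, inv_eq_self_of_orderOf_two hi.1, inv_eq_self_of_orderOf_two j.2.1,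
    ← mul_assoc, mul_self_of_orderOf_two hi.1, one_mul]

theorem pairStab_comm {x y : Ω} (hxy : x ≠ y) {a b : G} (ha : a ∈ pairStab G x y)
    (hb : b ∈ pairStab G x y) : Commute a b := by
  obtain ⟨s, hs, hsx⟩ := (uf h).exists_inv x
  obtain ⟨t, ht, hty⟩ := (uf h).exists_inv y
  obtain ⟨i, hi, -⟩ := exists_interchange (uf h) hs ht hsx hty hxy
  have key := interchange_inverts h hxy hi (mul_mem hb ha)
  rw [show i * (b * a) * i⁻¹ = (i * b * i⁻¹) * (i * a * i⁻¹) by group,
    interchange_inverts h hxy hi hb, interchange_inverts h hxy hi ha, ← mul_inv_rev] at key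
  exact inv_injective key

/-- `N(T) = T D` for every two point stabilizer `D` at the base point. -/
theorem exists_decomp {y : Ω} (hy : base T ≠ y) {g : G}
    (hg : g ∈ normalizer ((T : Subgroup G) : Set G)) :
    ∃ t ∈ T, ∃ d ∈ pairStab G (base T) y, g = t * d := by
  obtain ⟨s, hsT, hs⟩ := exists_invol h
  have hgi : g⁻¹ * s * g ∈ T := (Subgroup.mem_normalizer_iff''.1 hg s).1 hsT
  have hne : g⁻¹ * s * g ≠ 1 := fun e => ne_one_of_orderOf_two hs
    (by rw [show s = g * (g⁻¹ * s * g) * g⁻¹ by group, e]; group)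
  obtain ⟨d, hd, e⟩ := exists_conj_fix (uf h) hy
    ((mem_invMap_base h).2 ⟨hgi, hne⟩) ((mem_invMap_base h).2 ⟨hsT, ne_one_of_orderOf_two hs⟩)
  refine ⟨g * d⁻¹, ?_, d, hd, by group⟩
  show g * d⁻¹ ∈ (T : Subgroup G)
  rw [← centralizer_eq h hsT hs, mem_centralizer_singleton_iff]
  have e' : d * g⁻¹ * s = s * (d * g⁻¹) := by
    calc d * g⁻¹ * s = d * (g⁻¹ * s * g) * d⁻¹ * (d * g⁻¹) := by group
      _ = s * (d * g⁻¹) := by rw [e]
  calc g * d⁻¹ * s = g * d⁻¹ * (s * (d * g⁻¹)) * (g * d⁻¹) := by group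
    _ = g * d⁻¹ * (d * g⁻¹ * s) * (g * d⁻¹) := by rw [e']
    _ = s * (g * d⁻¹) := by group

theorem inf_eq_one {y : Ω} (hy : base T ≠ y) {d : G} (hd : d ∈ pairStab G (base T) y)
    (hdT : d ∈ T) : d = 1 := by
  by_contra hne
  exact hne (eq_one_of_commute h hy hd
    (orderOf_eq_two_iff_sq.2 ⟨hne, (abelian_exp_two h).2 d hdT⟩) (Commute.refl d))

theorem eq_one_of_commute_T {y : Ω} (hy : base T ≠ y) {d t : G}
    (hd : d ∈ pairStab G (base T) y) (hd1 : d ≠ 1) (ht : t ∈ T) (hc : Commute d t) : t = 1 := by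
  by_contra hne
  exact hd1 (eq_one_of_commute h hy hd
    (orderOf_eq_two_iff_sq.2 ⟨hne, (abelian_exp_two h).2 t ht⟩) hc)

omit h in
theorem mem_normalizer_of_mem_pairStab {y : Ω} {d : G} (hd : d ∈ pairStab G (base T) y) :
    d ∈ normalizer ((T : Subgroup G) : Set G) := smul_base_iff.1 (mem_pairStab.1 hd).1

theorem comm_mem_T {y : Ω} {d t : G} (hd : d ∈ pairStab G (base T) y) (ht : t ∈ T) :
    t * d * t⁻¹ * d⁻¹ ∈ T := by
  rw [show t * d * t⁻¹ * d⁻¹ = t * (d * t⁻¹ * d⁻¹) by group]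
  exact mul_mem ht ((mem_normalizer_iff.1 (mem_normalizer_of_mem_pairStab hd) _).1 (inv_mem ht))

/-- A point stabilizer meets the normalizer of `D` in `D`. -/
theorem mem_of_normalizes {y : Ω} (hy : base T ≠ y) {g : G}
    (hg : g ∈ normalizer ((T : Subgroup G) : Set G))
    (hnorm : ∀ d ∈ pairStab G (base T) y, g * d * g⁻¹ ∈ pairStab G (base T) y) :
    g ∈ pairStab G (base T) y := by
  obtain ⟨t, ht, e, he, rfl⟩ := exists_decomp h hy hg
  obtain ⟨d, hd, hd1⟩ := exists_ne_one h hy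
  have h1 := hnorm _ (mul_mem (mul_mem (inv_mem he) hd) he)
  rw [show t * e * (e⁻¹ * d * e) * (t * e)⁻¹ = t * d * t⁻¹ by group] at h1
  have h2 : t * d * t⁻¹ * d⁻¹ = 1 :=
    inf_eq_one h hy (mul_mem h1 (inv_mem hd)) (comm_mem_T h hd ht)
  have hc : Commute d t := (mul_inv_eq_iff_eq_mul.1 (mul_inv_eq_one.1 h2)).symm
  rw [eq_one_of_commute_T h hy hd hd1 ht hc, one_mul]
  exact he

/-- `D` fixes only two points. -/
theorem eq_or_eq_of_fixed {y z : Ω} (hy : base T ≠ y)
    (hfix : ∀ d ∈ pairStab G (base T) y, d • z = z) : z = base T ∨ z = y := by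
  by_contra hc
  push Not at hc
  obtain ⟨hz, hzy⟩ := hc
  set D := pairStab G (base T) y with hD
  obtain ⟨d₀, hd₀, hd₀1⟩ := exists_ne_one h hy
  have hD_le : ∀ w : Ω, base T ≠ w → (∀ d ∈ D, d • w = w) →
      ∀ i ∈ invMap (G := G) (base T) w, ∀ d ∈ D, i * d * i⁻¹ = d⁻¹ := fun w hw hfw i hi d hd =>
    interchange_inverts h hw hi (mem_pairStab.2 ⟨(mem_pairStab.1 hd).1, hfw d hd⟩)
  have hswap : ∀ w : Ω, base T ≠ w → ∃ i, i ∈ invMap (G := G) (base T) w := by
    intro w hw
    obtain ⟨s, hs, hsx⟩ := (uf h).exists_inv (base T)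
    obtain ⟨r, hr, hrw⟩ := (uf h).exists_inv w
    obtain ⟨i, hi, -⟩ := exists_interchange (uf h) hs hr hsx hrw hw
    exact ⟨i, hi⟩
  -- the centralizer of `D` fixes the base point
  have hcent : ∀ c : G, (∀ d ∈ D, Commute c d) → c • base T = base T := by
    intro c hcD
    by_contra hne
    have hfw : ∀ d ∈ D, d • (c • base T) = c • base T := fun d hd => by
      rw [smul_smul, ← (hcD d hd).eq, mul_smul, (mem_pairStab.1 hd).1]
    obtain ⟨i, hi⟩ := hswap _ (Ne.symm hne)
    have hinv : ∀ d ∈ D, i * c * d * (i * c)⁻¹ = d⁻¹ := fun d hd => by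
      rw [mul_assoc i, (hcD d hd).eq, ← hD_le _ (Ne.symm hne) hfw i hi d hd]; group
    have hg : i * c ∈ normalizer ((T : Subgroup G) : Set G) :=
      smul_base_iff.1 (by rw [mul_smul, smul_back hi.1 hi.2])
    have hmem : i * c ∈ D := mem_of_normalizes h hy hg fun d hd => by
      rw [hinv d hd]; exact inv_mem hd
    have := hinv d₀ hd₀
    rw [(pairStab_comm h hy hmem hd₀).eq, mul_inv_cancel_right] at this
    have h2 : d₀ * d₀ = 1 := mul_eq_one_iff_eq_inv.2 this
    have hodd := (odd_pairStab (uf h) hy).of_dvd_nat (Subgroup.orderOf_dvd_natCard _ hd₀)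
    rw [orderOf_eq_prime (by rw [sq]; exact h2) hd₀1] at hodd
    exact absurd hodd (by decide)
  obtain ⟨i, hi⟩ := hswap y hy
  obtain ⟨j, hj⟩ := hswap z (Ne.symm hz)
  have hij : ∀ d ∈ D, Commute (i * j) d := fun d hd => by
    have e1 := hD_le z (Ne.symm hz) hfix j hj d hd
    have e2 := hD_le y hy (fun d hd => (mem_pairStab.1 hd).2) i hi _ (inv_mem hd)
    rw [inv_inv] at e2
    show i * j * d = d * (i * j)
    rw [← mul_inv_eq_iff_eq_mul, show i * j * d * (i * j)⁻¹ = i * (j * d * j⁻¹) * i⁻¹ by group, e1]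
    exact e2
  have := hcent _ hij
  rw [mul_smul, hj.2] at this
  exact hzy (by rw [← hi.2, ← this, smul_smul, mul_self_of_orderOf_two hi.1, one_smul])

theorem eq_mul_mem {y : Ω} (hy : base T ≠ y) {d τ : G} (hd : d ∈ pairStab G (base T) y)
    (hd1 : d ≠ 1) (hτ : τ ∈ T) : ∃ t ∈ T, t * d * t⁻¹ = τ * d := by
  let f : ↥(T : Subgroup G) → ↥(T : Subgroup G) := fun t =>
    ⟨(t : G) * d * (t : G)⁻¹ * d⁻¹, comm_mem_T h hd t.2⟩
  have hf : Function.Injective f := by
    intro a b e
    have e' : (a : G) * d * (a : G)⁻¹ = (b : G) * d * (b : G)⁻¹ :=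
      mul_right_cancel (congrArg Subtype.val e)
    have hc : Commute d ((b : G)⁻¹ * a) := by
      show d * ((b : G)⁻¹ * a) = (b : G)⁻¹ * a * d
      calc d * ((b : G)⁻¹ * a) = (b : G)⁻¹ * ((b : G) * d * (b : G)⁻¹) * a := by group
        _ = (b : G)⁻¹ * a * d := by rw [← e']; group
    have := eq_one_of_commute_T h hy hd hd1 (mul_mem (inv_mem b.2) a.2) hc
    exact (Subtype.ext (inv_mul_eq_one.1 this)).symm
  obtain ⟨t, ht⟩ := (Finite.injective_iff_surjective.1 hf) ⟨τ, hτ⟩
  refine ⟨t, t.2, ?_⟩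
  rw [← show (t : G) * d * (t : G)⁻¹ * d⁻¹ = τ from congrArg Subtype.val ht]
  group

/-- `T` is transitive on the points different from the base point. -/
theorem exists_T_smul {y z : Ω} (hy : base T ≠ y) (hz : base T ≠ z) :
    ∃ t ∈ T, t • y = z := by
  obtain ⟨d₀, hd₀, hd₀1⟩ := exists_ne_one h hz
  obtain ⟨τ, hτ, d, hd, rfl⟩ := exists_decomp h hy (mem_normalizer_of_mem_pairStab hd₀)
  have hd1 : d ≠ 1 := by
    rintro rfl
    rw [mul_one] at hd₀ hd₀1
    exact hd₀1 (inf_eq_one h hz hd₀ hτ)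
  obtain ⟨t, ht, e⟩ := eq_mul_mem h hy hd hd1 hτ
  have htfix : t⁻¹ • base T = base T := smul_base_iff.2 (inv_mem (le_normalizer ht))
  have hz' : base T ≠ t⁻¹ • z := fun e => hz (smul_left_cancel t⁻¹ (htfix.trans e))
  have hdfix : d ∈ pairStab G (base T) (t⁻¹ • z) := mem_pairStab.2 ⟨(mem_pairStab.1 hd).1, by
    rw [show d = t⁻¹ * (τ * d) * t by rw [← e]; group, mul_smul, smul_inv_smul, mul_smul,
      (mem_pairStab.1 hd₀).2]⟩
  have hle : pairStab G (base T) (t⁻¹ • z) ≤ pairStab G (base T) y := by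
    intro g hg
    obtain ⟨t', ht', d', hd', rfl⟩ := exists_decomp h hy (mem_normalizer_of_mem_pairStab hg)
    have hc := pairStab_comm h hz' hdfix hg
    have hc' : Commute d t' := by
      have h3 := hc.mul_right (pairStab_comm h hy hd hd').inv_right
      rwa [mul_inv_cancel_right] at h3
    rw [eq_one_of_commute_T h hy hd hd1 ht' hc', one_mul]
    exact hd'
  have heq := eq_of_le_of_card_ge hle (by rw [card_pairStab h hz', card_pairStab h hy])
  rcases eq_or_eq_of_fixed h hy (z := t⁻¹ • z)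
    (fun d' hd' => (mem_pairStab.1 (heq ▸ hd')).2) with e' | e'
  · exact absurd e'.symm hz'
  · exact ⟨t, ht, by rw [← e', smul_inv_smul]⟩

theorem existsUnique_T_smul {y z : Ω} (hy : base T ≠ y) (hz : base T ≠ z) :
    ∃! t : G, t ∈ T ∧ t • y = z := by
  obtain ⟨t, ht, e⟩ := exists_T_smul h hy hz
  refine ⟨t, ⟨ht, e⟩, ?_⟩
  rintro s ⟨hs, e'⟩
  have hmem : t⁻¹ * s ∈ pairStab G (base T) y := mem_pairStab.2
    ⟨smul_base_iff.2 (le_normalizer (mul_mem (inv_mem ht) hs)),
      by rw [mul_smul, e', ← e, inv_smul_smul]⟩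
  exact (inv_mul_eq_one.1 (inf_eq_one h hy hmem (mul_mem (inv_mem ht) hs))).symm

/-- A two point stabilizer acts semiregularly on the other points. -/
theorem eq_one_of_fix_three {y z : Ω} (hy : base T ≠ y) (hz : base T ≠ z) (hyz : y ≠ z) {d : G}
    (hd : d ∈ pairStab G (base T) y) (hdz : d • z = z) : d = 1 := by
  by_contra hne
  obtain ⟨t, ⟨ht, e⟩, huniq⟩ := existsUnique_T_smul h hy hz
  have hdN := mem_normalizer_of_mem_pairStab hd
  have h1 : d * t * d⁻¹ = t := huniq _ ⟨(mem_normalizer_iff.1 hdN t).1 ht, by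
    rw [mul_smul, mul_smul, show d⁻¹ • y = y from inv_smul_eq_iff.2 (mem_pairStab.1 hd).2.symm, e,
      hdz]⟩
  have := eq_one_of_commute_T h hy hd hne ht (mul_inv_eq_iff_eq_mul.1 h1)
  rw [this, one_smul] at e
  exact hyz e

theorem card_points : Nat.card Ω = Nat.card T + 1 := by
  classical
  haveI := nontrivial_cosets (stronglyEmbedded h)
  obtain ⟨y, hy⟩ := exists_ne (base T)
  have hcompl : ∀ t : T, base T ≠ (t : G) • y := fun t e =>
    hy (smul_left_cancel (t : G) (((smul_base_iff.2 (le_normalizer t.2)).trans e).symm))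
  have hbij : Function.Bijective (fun o : Option (T : Subgroup G) =>
      o.elim (base T) fun t => (t : G) • y) := by
    refine ⟨?_, ?_⟩
    · rintro (_ | s) (_ | t) e <;> simp only [Option.elim] at e
      · rfl
      · exact absurd e (hcompl t)
      · exact absurd e.symm (hcompl s)
      · exact congrArg some (Subtype.ext
          ((existsUnique_T_smul h hy.symm (hcompl t)).unique ⟨s.2, e⟩ ⟨t.2, rfl⟩))
    · intro z
      by_cases hz : base T = z
      · exact ⟨none, hz⟩
      · obtain ⟨t, ht, e⟩ := exists_T_smul h hy.symm hz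
        exact ⟨some ⟨t, ht⟩, e⟩
  rw [← Nat.card_eq_of_bijective _ hbij, Finite.card_option]

theorem exists_pairStab_smul {y z w : Ω} (hy : base T ≠ y) (hz : base T ≠ z) (hyz : y ≠ z)
    (hw : base T ≠ w) (hyw : y ≠ w) : ∃ d ∈ pairStab G (base T) y, d • z = w := by
  classical
  have hmem : ∀ d : pairStab G (base T) y,
      (d : G) • z ≠ base T ∧ (d : G) • z ≠ y := fun d =>
    ⟨fun e => hz (smul_left_cancel (d : G) ((mem_pairStab.1 d.2).1.trans e.symm)),
     fun e => hyz (smul_left_cancel (d : G) ((mem_pairStab.1 d.2).2.trans e.symm))⟩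
  let f : pairStab G (base T) y → {v : Ω // v ≠ base T ∧ v ≠ y} := fun d => ⟨_, hmem d⟩
  have hf : Function.Injective f := by
    intro a b e
    have e' : (a : G) • z = (b : G) • z := congrArg Subtype.val e
    have := eq_one_of_fix_three h hy hz hyz (a⁻¹ * b).2
      (show ((a : G)⁻¹ * b) • z = z by rw [mul_smul, ← e', inv_smul_smul])
    exact inv_mul_eq_one.1 (Subtype.ext this : a⁻¹ * b = 1)
  haveI := Fintype.ofFinite Ω
  have hcard : Nat.card {v : Ω // v ≠ base T ∧ v ≠ y} = Nat.card (pairStab G (base T) y) := by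
    rw [card_pairStab h hy]
    have hs : {v : Ω | v ≠ base T ∧ v ≠ y} = (Set.univ \ {base T}) \ {y} := by ext v; simp
    change Nat.card ({v : Ω | v ≠ base T ∧ v ≠ y} : Set Ω) = _
    rw [Nat.card_coe_set_eq, hs, Set.ncard_diff_singleton_of_mem (by simp [hy.symm]),
      Set.ncard_diff_singleton_of_mem (Set.mem_univ _), Set.ncard_univ, card_points h]
    omega
  obtain ⟨d, hd⟩ := ((Nat.bijective_iff_injective_and_card f).2 ⟨hf, hcard.symm⟩).2
    ⟨w, hw.symm, hyw.symm⟩
  exact ⟨d, d.2, congrArg Subtype.val hd⟩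

/-- `G` is transitive on triples of distinct points. -/
theorem exists_smul_triple (x₁ x₂ x₃ y₁ y₂ y₃ : Ω) (h12 : x₁ ≠ x₂) (h13 : x₁ ≠ x₃)
    (h23 : x₂ ≠ x₃) (g12 : y₁ ≠ y₂) (g13 : y₁ ≠ y₃) (g23 : y₂ ≠ y₃) :
    ∃ g : G, g • x₁ = y₁ ∧ g • x₂ = y₂ ∧ g • x₃ = y₃ := by
  obtain ⟨a, ha⟩ := (uf h).transitive x₁ (base T)
  obtain ⟨b, hb⟩ := (uf h).transitive y₁ (base T)
  have ne1 : ∀ {g : G} {u v : Ω}, g • u = base T → u ≠ v → base T ≠ g • v :=
    fun hg hne e => hne (smul_left_cancel _ (hg.trans e))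
  obtain ⟨t, ht, et⟩ := exists_T_smul h (ne1 ha h12) (ne1 hb g12)
  have htfix : t • base T = base T := smul_base_iff.2 (le_normalizer ht)
  have nz : base T ≠ (t * a) • x₃ := ne1 (by rw [mul_smul, ha, htfix]) h13
  have nyz : b • y₂ ≠ (t * a) • x₃ := by
    rw [← et, ← mul_smul]; exact fun e => h23 (smul_left_cancel _ e)
  obtain ⟨d, hd, ed⟩ := exists_pairStab_smul h (ne1 hb g12) nz nyz (ne1 hb g13)
    (fun e => g23 (smul_left_cancel b e))
  refine ⟨b⁻¹ * d * (t * a), ?_, ?_, ?_⟩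
  · rw [mul_smul, mul_smul t, ha, htfix, mul_smul, (mem_pairStab.1 hd).1, inv_smul_eq_iff, hb]
  · rw [mul_smul, mul_smul t, et, mul_smul, (mem_pairStab.1 hd).2, inv_smul_smul]
  · rw [mul_smul, mul_smul b⁻¹, ed, inv_smul_smul]

theorem eq_one_of_fix_triple (g : G) (x₁ x₂ x₃ : Ω) (h12 : x₁ ≠ x₂) (h13 : x₁ ≠ x₃)
    (h23 : x₂ ≠ x₃) (e1 : g • x₁ = x₁) (e2 : g • x₂ = x₂) (e3 : g • x₃ = x₃) : g = 1 := by
  obtain ⟨a, ha⟩ := (uf h).transitive x₁ (base T)
  have key : ∀ {v : Ω}, g • v = v → (a * g * a⁻¹) • a • v = a • v := fun {v} e => by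
    rw [smul_smul, inv_mul_cancel_right, mul_smul, e]
  have ne1 : ∀ {v : Ω}, x₁ ≠ v → base T ≠ a • v := fun hne e =>
    hne (smul_left_cancel a (ha.trans e))
  have := eq_one_of_fix_three h (ne1 h12) (ne1 h13) (fun e => h23 (smul_left_cancel a e))
    (d := a * g * a⁻¹) (mem_pairStab.2 ⟨by rw [← ha]; exact key e1, key e2⟩) (key e3)
  rwa [mul_inv_eq_one, mul_eq_left] at this

end CfsgLib.SEmbed
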