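import Cfsg.Prelude.Def_Involutions
import Cfsg.Agent.Small.StronglyEmbedded
import Mathlib.GroupTheory.GroupAction.Quotient

/-!
# Counting involutions when every involution fixes exactly one point

If `G` acts transitively on `Ω`, every involution fixes exactly one point and some involution
exists, then for `x ≠ y`: the number of involutions interchanging `x` and `y` equals the number
of involutions fixing `x`, and the two point stabilizer is transitive on both of these sets.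
-/

namespace CfsgLib.SEmbed

open CfsgLib.Small

variable {G : Type*} [Group G] {Ω : Type*} [MulAction G Ω]

/-- The involutions mapping `x` to `y`. -/
def invMap (x y : Ω) : Set G := {i | orderOf i = 2 ∧ i • x = y}

/-- The stabilizer of two points. -/
def pairStab (G : Type*) [Group G] {Ω : Type*} [MulAction G Ω] (x y : Ω) : Subgroup G :=
  MulAction.stabilizer G x ⊓ MulAction.stabilizer G y

theorem mem_pairStab {g : G} {x y : Ω} : g ∈ pairStab G x y ↔ g • x = x ∧ g • y = y := Iff.rfl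

/-- The standing hypothesis. -/
structure UniqueFix (G : Type*) [Group G] (Ω : Type*) [MulAction G Ω] : Prop where
  unique : ∀ i : G, orderOf i = 2 → ∀ x y : Ω, i • x = x → i • y = y → x = y
  exists_fix : ∀ i : G, orderOf i = 2 → ∃ x : Ω, i • x = x
  exists_inv : ∀ x : Ω, ∃ i : G, orderOf i = 2 ∧ i • x = x
  transitive : ∀ x y : Ω, ∃ g : G, g • x = y

theorem smul_back {i : G} (hi : orderOf i = 2) {x y : Ω} (h : i • x = y) : i • y = x := by
  rw [← h, smul_smul, mul_self_of_orderOf_two hi, one_smul]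

variable [Finite G] (h : UniqueFix G Ω)
include h

theorem finite_points : Finite Ω := by
  rcases isEmpty_or_nonempty Ω with he | ⟨⟨x⟩⟩
  · infer_instance
  · exact Finite.of_surjective (fun g : G => g • x) fun y => h.transitive x y

theorem commute_fix {i g : G} (hi : orderOf i = 2) (hc : Commute g i) {x : Ω} (hx : i • x = x) :
    g • x = x :=
  h.unique i hi _ _ (by rw [smul_smul, ← hc.eq, mul_smul, hx]) hx

/-- Involutions with different fixed points have product of odd order. -/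
theorem odd_mul {s t : G} (hs : orderOf s = 2) (ht : orderOf t = 2) {x y : Ω} (hsx : s • x = x)
    (hty : t • y = y) (hxy : x ≠ y) : Odd (orderOf (s * t)) := by
  by_contra hodd
  obtain ⟨hw, hws, hwt⟩ := half_pow_spec hs ht (Nat.not_odd_iff_even.1 hodd)
  exact hxy (h.unique _ hw _ _ (commute_fix h hs hws hsx) (commute_fix h ht hwt hty))

/-- Two involutions with different fixed points are interchanged by an involution. -/
theorem exists_interchange {s t : G} (hs : orderOf s = 2) (ht : orderOf t = 2) {x y : Ω}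
    (hsx : s • x = x) (hty : t • y = y) (hxy : x ≠ y) :
    ∃ i ∈ invMap (G := G) x y, i * s * i⁻¹ = t := by
  obtain ⟨k, hk⟩ := conj_pow_eq_of_odd hs ht (odd_mul h hs ht hsx hty hxy)
  set v := (s * t) ^ k
  have hv : s * v * s = v⁻¹ := by
    have := invol_conj_pow (invol_conj_mul hs ht) k
    rwa [inv_eq_self_of_orderOf_two hs] at this
  have hss := mul_self_of_orderOf_two hs
  have hconj : (v * s) * s * (v * s)⁻¹ = t := by
    rw [← hk]; group
  have hne : v * s ≠ 1 := by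
    intro h1
    rw [h1, one_mul, inv_one, mul_one] at hconj
    exact hxy (h.unique s hs x y hsx (hconj ▸ hty))
  have hsq : (v * s) ^ 2 = 1 := by
    rw [sq, mul_assoc, ← mul_assoc s, hv, mul_inv_cancel]
  refine ⟨v * s, ⟨orderOf_eq_prime hsq hne, h.unique t ht _ _ ?_ hty⟩, hconj⟩
  rw [← hconj, smul_smul, inv_mul_cancel_right, mul_smul, hsx]

/-- All involutions are conjugate, provided there are at least two points. -/
theorem isConj_invol [Nontrivial Ω] {s t : G} (hs : orderOf s = 2) (ht : orderOf t = 2) :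
    IsConj s t := by
  obtain ⟨x, hx⟩ := h.exists_fix s hs
  obtain ⟨y, hy⟩ := h.exists_fix t ht
  by_cases hxy : x = y
  · obtain ⟨z, hz⟩ := exists_ne x
    obtain ⟨r, hr, hrz⟩ := h.exists_inv z
    obtain ⟨i, -, hi⟩ := exists_interchange h hs hr hx hrz hz.symm
    obtain ⟨j, -, hj⟩ := exists_interchange h hr ht hrz hy (hxy ▸ hz)
    exact (isConj_iff.2 ⟨i, hi⟩).trans (isConj_iff.2 ⟨j, hj⟩)
  · obtain ⟨i, -, hi⟩ := exists_interchange h hs ht hx hy hxy
    exact isConj_iff.2 ⟨i, hi⟩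

theorem card_invMap_self (x y : Ω) :
    Nat.card (invMap (G := G) x x) = Nat.card (invMap (G := G) y y) := by
  obtain ⟨g, rfl⟩ := h.transitive x y
  refine Nat.card_congr ((MulAut.conj g).toEquiv.subtypeEquiv fun i => ?_)
  show (orderOf i = 2 ∧ i • x = x) ↔
    (orderOf (g * i * g⁻¹) = 2 ∧ (g * i * g⁻¹) • g • x = g • x)
  rw [orderOf_conj_eq, smul_smul, inv_mul_cancel_right, mul_smul, smul_left_cancel_iff]

theorem card_invMap_le {x y : Ω} (hxy : x ≠ y) :
    Nat.card (invMap (G := G) x x) ≤ Nat.card (invMap (G := G) x y) := by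
  obtain ⟨t, ht, hty⟩ := h.exists_inv y
  choose f hf hft using fun s : invMap (G := G) x x =>
    exists_interchange h s.2.1 ht s.2.2 hty hxy
  refine Nat.card_le_card_of_injective (fun s => (⟨f s, hf s⟩ : invMap (G := G) x y)) ?_
  intro s s' he
  have he' : f s = f s' := congrArg Subtype.val he
  have := (hft s).trans (hft s').symm
  rw [he'] at this
  exact Subtype.ext (mul_left_cancel (mul_right_cancel this))

/-- The number of involutions interchanging two points is the number fixing one. -/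
theorem card_invMap_eq {x y : Ω} (hxy : x ≠ y) :
    Nat.card (invMap (G := G) x y) = Nat.card (invMap (G := G) x x) := by
  classical
  haveI := finite_points h
  haveI := Fintype.ofFinite Ω
  let e1 : (Σ z : Ω, invMap (G := G) x z) ≃ {i : G // orderOf i = 2} :=
    { toFun := fun p => ⟨p.2.1, p.2.2.1⟩
      invFun := fun i => ⟨i.1 • x, ⟨i.1, i.2, rfl⟩⟩
      left_inv := by rintro ⟨z, i, hi, rfl⟩; rfl
      right_inv := fun i => rfl }
  let f2 : (Σ z : Ω, invMap (G := G) z z) → {i : G // orderOf i = 2} :=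
    fun p => ⟨p.2.1, p.2.2.1⟩
  have hf2 : Function.Bijective f2 := by
    refine ⟨?_, fun i => ?_⟩
    · rintro ⟨z, i, hi⟩ ⟨z', i', hi'⟩ he
      obtain rfl : i = i' := congrArg Subtype.val he
      obtain rfl : z = z' := h.unique i hi.1 z z' hi.2 hi'.2
      rfl
    · obtain ⟨z, hz⟩ := h.exists_fix i.1 i.2
      exact ⟨⟨z, i.1, i.2, hz⟩, rfl⟩
  have hsum : ∑ z : Ω, Nat.card (invMap (G := G) x x) = ∑ z : Ω, Nat.card (invMap (G := G) x z) := by
    rw [← Nat.card_sigma, ← Nat.card_sigma]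
    rw [Nat.card_congr e1, ← Nat.card_eq_of_bijective f2 hf2, Nat.card_sigma, Nat.card_sigma]
    exact Finset.sum_congr rfl fun z _ => card_invMap_self h x z
  have hle : ∀ z ∈ (Finset.univ : Finset Ω),
      Nat.card (invMap (G := G) x x) ≤ Nat.card (invMap (G := G) x z) := by
    intro z _
    by_cases hz : x = z
    · rw [hz]
    · exact card_invMap_le h hz
  exact ((Finset.sum_eq_sum_iff_of_le hle).1 hsum y (Finset.mem_univ y)).symm

theorem odd_pairStab {x y : Ω} (hxy : x ≠ y) : Odd (Nat.card (pairStab G x y)) := by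
  by_contra hodd
  obtain ⟨t, ht, ho⟩ := exists_invol_mem (Nat.not_odd_iff_even.1 hodd)
  exact hxy (h.unique t ho x y (mem_pairStab.1 ht).1 (mem_pairStab.1 ht).2)

/-- The two point stabilizer is transitive on the involutions interchanging the two points. -/
theorem exists_conj_swap {x y : Ω} (hxy : x ≠ y) {i j : G} (hi : i ∈ invMap (G := G) x y)
    (hj : j ∈ invMap (G := G) x y) : ∃ d ∈ pairStab G x y, d * i * d⁻¹ = j := by
  have hmem : i * j ∈ pairStab G x y := mem_pairStab.2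
    ⟨by rw [mul_smul, hj.2, smul_back hi.1 hi.2],
     by rw [mul_smul, smul_back hj.1 hj.2, hi.2]⟩
  have hodd : Odd (orderOf (i * j)) :=
    (odd_pairStab h hxy).of_dvd_nat (Subgroup.orderOf_dvd_natCard _ hmem)
  obtain ⟨k, hk⟩ := conj_pow_eq_of_odd hi.1 hj.1 hodd
  exact ⟨_, pow_mem hmem k, hk⟩

omit h in
/-- Counting commuting pairs in a conjugation invariant set. -/
theorem card_commute_pairs (D : Subgroup G) (X : Set G)
    (hX : ∀ d ∈ D, ∀ s ∈ X, d * s * d⁻¹ ∈ X) {s₀ : G} (hs₀ : s₀ ∈ X) :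
    Nat.card D ≤ Nat.card {p : G × G // p.1 ∈ X ∧ p.2 ∈ D ∧ Commute p.2 p.1} ∧
    ((Nat.card {p : G × G // p.1 ∈ X ∧ p.2 ∈ D ∧ Commute p.2 p.1} = Nat.card D) ↔
      ∀ s ∈ X, ∃ d ∈ D, d * s₀ * d⁻¹ = s) := by
  classical
  set r : G → G := fun s => if hs : ∃ d ∈ D, d * s₀ * d⁻¹ = s then hs.choose else 1 with hr
  have hr' : ∀ d ∈ D, r (d * s₀ * d⁻¹) ∈ D ∧
      r (d * s₀ * d⁻¹) * s₀ * (r (d * s₀ * d⁻¹))⁻¹ = d * s₀ * d⁻¹ := by
    intro d hd
    have hs : ∃ e ∈ D, e * s₀ * e⁻¹ = d * s₀ * d⁻¹ := ⟨d, hd, rfl⟩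
    simp only [hr, dif_pos hs]
    exact hs.choose_spec
  let f : D → {p : G × G // p.1 ∈ X ∧ p.2 ∈ D ∧ Commute p.2 p.1} := fun d =>
    ⟨((d : G) * s₀ * (d : G)⁻¹, (d : G) * (r ((d : G) * s₀ * (d : G)⁻¹))⁻¹),
      hX _ d.2 _ hs₀, mul_mem d.2 (inv_mem (hr' _ d.2).1), by
        obtain ⟨h1, h2⟩ := hr' _ d.2
        set e := r ((d : G) * s₀ * (d : G)⁻¹)
        refine mul_inv_eq_iff_eq_mul.1 ?_
        calc (d : G) * e⁻¹ * ((d : G) * s₀ * (d : G)⁻¹) * ((d : G) * e⁻¹)⁻¹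
            = (d : G) * e⁻¹ * (e * s₀ * e⁻¹) * ((d : G) * e⁻¹)⁻¹ := by rw [h2]
          _ = (d : G) * s₀ * (d : G)⁻¹ := by group⟩
  have hf : Function.Injective f := by
    intro d d' he
    have h1 := congrArg (fun p => p.1.1) he
    have h2 := congrArg (fun p => p.1.2) he
    simp only [f] at h1 h2
    rw [h1] at h2
    exact Subtype.ext (mul_right_cancel h2)
  refine ⟨Nat.card_le_card_of_injective f hf, ?_⟩
  constructor
  · intro hcard s hs
    obtain ⟨-, hsur⟩ := (Nat.bijective_iff_injective_and_card f).2 ⟨hf, hcard.symm⟩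
    obtain ⟨d, hd⟩ := hsur ⟨(s, 1), hs, one_mem D, Commute.one_left s⟩
    exact ⟨d, d.2, congrArg (fun p => p.1.1) hd⟩
  · intro htr
    refine (Nat.card_eq_of_bijective f ⟨hf, ?_⟩).symm
    rintro ⟨⟨s, e⟩, hs, he, hc⟩
    obtain ⟨d, hd, rfl⟩ := htr s hs
    obtain ⟨h1, h2⟩ := hr' d hd
    have hco : e * r (d * s₀ * d⁻¹) * s₀ * (e * r (d * s₀ * d⁻¹))⁻¹ = d * s₀ * d⁻¹ := by
      calc e * r (d * s₀ * d⁻¹) * s₀ * (e * r (d * s₀ * d⁻¹))⁻¹
          = e * (r (d * s₀ * d⁻¹) * s₀ * (r (d * s₀ * d⁻¹))⁻¹) * e⁻¹ := by group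
        _ = d * s₀ * d⁻¹ := by rw [h2]; exact mul_inv_eq_iff_eq_mul.2 hc
    refine ⟨⟨e * r (d * s₀ * d⁻¹), mul_mem he h1⟩, Subtype.ext ?_⟩
    simp only [f, hco]
    rw [mul_inv_cancel_right]

/-- The two point stabilizer is transitive on the involutions fixing one of the points. -/
theorem exists_conj_fix {x y : Ω} (hxy : x ≠ y) {s t : G} (hs : s ∈ invMap (G := G) x x)
    (ht : t ∈ invMap (G := G) x x) : ∃ d ∈ pairStab G x y, d * s * d⁻¹ = t := by
  classical
  haveI := finite_points h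
  haveI := Fintype.ofFinite {p : Ω × Ω // p.1 ≠ p.2}
  have hinvX : ∀ a b c : Ω, ∀ d ∈ pairStab G a b, ∀ i ∈ invMap (G := G) a c, (c = a ∨ c = b) →
      d * i * d⁻¹ ∈ invMap (G := G) a c := by
    rintro a b c d hd i hi hc
    obtain ⟨hda, hdb⟩ := mem_pairStab.1 hd
    have hda' : d⁻¹ • a = a := inv_smul_eq_iff.2 hda.symm
    refine ⟨by rw [orderOf_conj_eq]; exact hi.1, ?_⟩
    rw [mul_smul, mul_smul, hda', hi.2]
    rcases hc with rfl | rfl <;> assumption
  let P1 : {p : Ω × Ω // p.1 ≠ p.2} → Type _ := fun p =>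
    {q : G × G // q.1 ∈ invMap (G := G) p.1.1 p.1.1 ∧ q.2 ∈ pairStab G p.1.1 p.1.2 ∧
      Commute q.2 q.1}
  let P2 : {p : Ω × Ω // p.1 ≠ p.2} → Type _ := fun p =>
    {q : G × G // q.1 ∈ invMap (G := G) p.1.1 p.1.2 ∧ q.2 ∈ pairStab G p.1.1 p.1.2 ∧
      Commute q.2 q.1}
  let T := {p : G × Ω × G // orderOf p.1 = 2 ∧ p.1 • p.2.1 ≠ p.2.1 ∧ Commute p.2.2 p.1 ∧
    p.2.2 • p.2.1 = p.2.1}
  let f1 : (Σ p, P1 p) → T := fun a =>
    ⟨(a.2.1.1, a.1.1.2, a.2.1.2), a.2.2.1.1,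
      fun e => a.1.2 (h.unique _ a.2.2.1.1 _ _ a.2.2.1.2 e), a.2.2.2.2,
      (mem_pairStab.1 a.2.2.2.1).2⟩
  let f2 : (Σ p, P2 p) → T := fun a =>
    ⟨(a.2.1.1, a.1.1.1, a.2.1.2), a.2.2.1.1,
      fun e => a.1.2 (e.symm.trans a.2.2.1.2), a.2.2.2.2, (mem_pairStab.1 a.2.2.2.1).1⟩
  have hf1 : Function.Bijective f1 := by
    refine ⟨?_, ?_⟩
    · rintro ⟨⟨⟨a, b⟩, hab⟩, ⟨i, g⟩, hi, hg, hc⟩ ⟨⟨⟨a', b'⟩, hab'⟩, ⟨i', g'⟩, hi', hg', hc'⟩ he
      simp only [f1, T, Subtype.mk.injEq, Prod.mk.injEq] at he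
      obtain ⟨rfl, rfl, rfl⟩ := he
      obtain rfl : a = a' := h.unique i hi.1 _ _ hi.2 hi'.2
      rfl
    · rintro ⟨⟨i, b, g⟩, hi, hib, hc, hgb⟩
      obtain ⟨a, ha⟩ := h.exists_fix i hi
      refine ⟨⟨⟨(a, b), ?_⟩, ⟨(i, g), ⟨hi, ha⟩, ?_, hc⟩⟩, rfl⟩
      · rintro (rfl : a = b); exact hib ha
      · exact mem_pairStab.2 ⟨commute_fix h hi hc ha, hgb⟩
  have hf2 : Function.Bijective f2 := by
    refine ⟨?_, ?_⟩
    · rintro ⟨⟨⟨a, b⟩, hab⟩, ⟨i, g⟩, hi, hg, hc⟩ ⟨⟨⟨a', b'⟩, hab'⟩, ⟨i', g'⟩, hi', hg', hc'⟩ he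
      simp only [f2, T, Subtype.mk.injEq, Prod.mk.injEq] at he
      obtain ⟨rfl, rfl, rfl⟩ := he
      obtain rfl : b = b' := hi.2.symm.trans hi'.2
      rfl
    · rintro ⟨⟨i, a, g⟩, hi, hia, hc, hga⟩
      refine ⟨⟨⟨(a, i • a), hia.symm⟩, ⟨(i, g), ⟨hi, rfl⟩, ?_, hc⟩⟩, rfl⟩
      exact mem_pairStab.2 ⟨hga, by rw [smul_smul, hc.eq, mul_smul, hga]⟩
  have h2 : ∀ p : {p : Ω × Ω // p.1 ≠ p.2}, Nat.card (P2 p) =
      Nat.card (pairStab G p.1.1 p.1.2) := by
    rintro ⟨⟨a, b⟩, hab⟩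
    obtain ⟨i, hi, hia⟩ := h.exists_inv a
    obtain ⟨j, hj, hjb⟩ := h.exists_inv b
    obtain ⟨k, hk, -⟩ := exists_interchange h hi hj hia hjb hab
    exact (card_commute_pairs (pairStab G a b) (invMap (G := G) a b)
      (fun d hd i hi => hinvX a b b d hd i hi (Or.inr rfl)) hk).2.2
      fun l hl => exists_conj_swap h hab hk hl
  have h1 : ∀ p ∈ (Finset.univ : Finset {p : Ω × Ω // p.1 ≠ p.2}),
      Nat.card (pairStab G p.1.1 p.1.2) ≤ Nat.card (P1 p) := by
    rintro ⟨⟨a, b⟩, hab⟩ -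
    obtain ⟨i, hi, hia⟩ := h.exists_inv a
    exact (card_commute_pairs (pairStab G a b) (invMap (G := G) a a)
      (fun d hd i hi => hinvX a b a d hd i hi (Or.inl rfl)) (s₀ := i) ⟨hi, hia⟩).1
  have hsum : ∑ p : {p : Ω × Ω // p.1 ≠ p.2}, Nat.card (pairStab G p.1.1 p.1.2) =
      ∑ p, Nat.card (P1 p) := by
    symm
    rw [← Nat.card_sigma, Nat.card_eq_of_bijective f1 hf1, ← Nat.card_eq_of_bijective f2 hf2,
      Nat.card_sigma]
    exact Finset.sum_congr rfl fun p _ => h2 p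
  have heq := (Finset.sum_eq_sum_iff_of_le h1).1 hsum ⟨(x, y), hxy⟩ (Finset.mem_univ _)
  exact (card_commute_pairs (pairStab G x y) (invMap (G := G) x x)
    (fun d hd i hi => hinvX x y x d hd i hi (Or.inl rfl)) hs).2.1 heq.symm t ht

end CfsgLib.SEmbed
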