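import Cfsg.Agent.SEmbed.Abelian
import Mathlib.LinearAlgebra.Matrix.ProjectiveSpecialLinearGroup
import Mathlib.Algebra.Field.TransferInstance
import Mathlib.Algebra.Ring.Subring.Basic
import Mathlib.RingTheory.LittleWedderburn

/-!
# Recognition of `PSL₂(2^n)` from elementary abelian involution centralizers
-/

namespace CfsgLib.SEmbed

open CfsgLib.Small Subgroup

/-- A finite abelian group of exponent two with an abelian group of automorphisms transitive on the
nonidentity elements is the additive group of a field, the automorphisms being multiplications. -/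
theorem exists_field_of_transitive {A : Type*} [AddCommGroup A] [Finite A] {ι : Type*}
    (ρ : ι → AddMonoid.End A) (hcomm : ∀ i j, ρ i * ρ j = ρ j * ρ i)
    (h2 : ∀ a : A, a + a = 0) (e : A) (he : e ≠ 0)
    (htrans : ∀ a : A, a ≠ 0 → ∃ i, ρ i e = a) (hinj : ∀ i a, ρ i a = 0 → a = 0) :
    ∃ (F : Type) (_ : Field F) (_ : Fintype F) (τ : F ≃+ A),
      Nat.card F = Nat.card A ∧ CharP F 2 ∧ τ 1 = e ∧
      ∀ i : ι, ∃ a : F, a ≠ 0 ∧ ∀ x, τ (a * x) = ρ i (τ x) := by
  classical
  set S : Set (AddMonoid.End A) := Set.range ρ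
  have hS : ∀ x ∈ S, ∀ y ∈ S, x * y = y * x := by
    rintro _ ⟨i, rfl⟩ _ ⟨j, rfl⟩; exact hcomm i j
  letI : CommRing (Subring.closure S) := Subring.closureCommRingOfComm hS
  have hc : ∀ r ∈ Subring.closure S, ∀ i, r * ρ i = ρ i * r := by
    intro r hr i
    exact congrArg Subtype.val
      (mul_comm (⟨r, hr⟩ : Subring.closure S) ⟨ρ i, Subring.subset_closure ⟨i, rfl⟩⟩)
  have hker : ∀ r ∈ Subring.closure S, r e = 0 → r = 0 := by
    intro r hr hre
    ext a
    by_cases ha : a = 0
    · simp [ha]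
    obtain ⟨i, rfl⟩ := htrans a ha
    have := DFunLike.congr_fun (hc r hr i) e
    simp only [AddMonoid.End.coe_mul, Function.comp_apply, hre, map_zero] at this
    simpa using this
  have hne : ∀ i, ρ i e ≠ 0 := fun i h0 => he (hinj i e h0)
  let ev : Subring.closure S →+ A :=
    { toFun := fun r => (r : AddMonoid.End A) e
      map_zero' := rfl
      map_add' := fun _ _ => rfl }
  have hev : Function.Bijective ev := by
    refine ⟨(injective_iff_map_eq_zero ev).2 fun r hr => Subtype.ext (hker r r.2 hr), fun a => ?_⟩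
    by_cases ha : a = 0
    · exact ⟨0, ha.symm ▸ rfl⟩
    obtain ⟨i, hi⟩ := htrans a ha
    exact ⟨⟨ρ i, Subring.subset_closure ⟨i, rfl⟩⟩, hi⟩
  haveI : Nontrivial A := ⟨⟨e, 0, he⟩⟩
  haveI : Finite (Subring.closure S) := Finite.of_equiv A (Equiv.ofBijective ev hev).symm
  haveI : Nontrivial (Subring.closure S) := (Equiv.ofBijective ev hev).nontrivial
  haveI : NoZeroDivisors (Subring.closure S) := by
    refine ⟨fun {r s} hrs => ?_⟩
    by_cases hs : s = 0
    · exact Or.inr hs
    refine Or.inl (Subtype.ext (hker r r.2 ?_))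
    have hse : (s : AddMonoid.End A) e ≠ 0 := fun h0 => hs (Subtype.ext (hker s s.2 h0))
    obtain ⟨i, hi⟩ := htrans _ hse
    have h1 : (r : AddMonoid.End A) ((s : AddMonoid.End A) e) = 0 :=
      DFunLike.congr_fun (congrArg Subtype.val hrs) e
    rw [← hi] at h1
    have h3 := DFunLike.congr_fun (hc r r.2 i) e
    simp only [AddMonoid.End.coe_mul, Function.comp_apply, h1] at h3
    exact hinj i _ h3.symm
  haveI : IsDomain (Subring.closure S) := NoZeroDivisors.to_isDomain _
  haveI := Fintype.ofFinite (Subring.closure S)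
  let fR : Field (Subring.closure S) := Fintype.fieldOfDomain _
  let eF : {k : ℕ // k < Fintype.card (Subring.closure S)} ≃ Subring.closure S :=
    Fin.equivSubtype.symm.trans (Fintype.equivFin _).symm
  letI fF : Field {k : ℕ // k < Fintype.card (Subring.closure S)} := @Equiv.field _ _ eF fR
  let iso : {k : ℕ // k < Fintype.card (Subring.closure S)} ≃+* Subring.closure S :=
    { eF with
      map_mul' := fun x y => eF.apply_symm_apply _
      map_add' := fun x y => eF.apply_symm_apply _ }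
  let τ : {k : ℕ // k < Fintype.card (Subring.closure S)} ≃+ A :=
    iso.toAddEquiv.trans (AddEquiv.ofBijective ev hev)
  have hcard : Nat.card {k : ℕ // k < Fintype.card (Subring.closure S)} = Nat.card A :=
    Nat.card_congr τ.toEquiv
  have hone : τ 1 = e := by
    show ev (iso 1) = e
    rw [map_one]; rfl
  have htwo : (1 : {k : ℕ // k < Fintype.card (Subring.closure S)}) + 1 = 0 :=
    τ.injective (by rw [map_add, map_zero]; exact h2 _)
  refine ⟨_, fF, Fintype.ofEquiv _ eF.symm, τ, hcard, ?_, hone, fun i => ?_⟩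
  · exact CharTwo.of_one_ne_zero_of_two_eq_zero one_ne_zero (by rw [← one_add_one_eq_two, htwo])
  · let r : Subring.closure S := ⟨ρ i, Subring.subset_closure ⟨i, rfl⟩⟩
    refine ⟨iso.symm r, fun h0 => ?_, fun x => ?_⟩
    · have : r = 0 := by rw [← iso.apply_symm_apply r, h0, map_zero]
      exact hne i (DFunLike.congr_fun (congrArg Subtype.val this) e)
    · show ev (iso (iso.symm r * x)) = ρ i (ev (iso x))
      rw [map_mul, iso.apply_symm_apply]
      rfl

variable {G : Type*} [Group G] [Finite G] {T : Sylow 2 G}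

local notation "Ω" => G ⧸ normalizer ((T : Subgroup G) : Set G)

/-- The projective line point of a vector in homogeneous coordinates. -/
def linePoint {F : Type} [Field F] [DecidableEq F] {P : Type*} (pt : F → P) (inf : P)
    (v : Fin 2 → F) : P :=
  if v 1 = 0 then inf else pt (v 0 / v 1)

/-- `G ≅ PSL₂(F)` with `|F| = |T|`. -/
theorem exists_equiv_PSL2 (h : ElemCentralizers T) :
    ∃ (F : Type) (_ : Field F) (_ : Fintype F), Fintype.card F = Nat.card T ∧
      Nonempty (G ≃* Matrix.ProjectiveSpecialLinearGroup (Fin 2) F) := by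
  classical
  haveI := nontrivial_cosets (stronglyEmbedded h)
  obtain ⟨y, hy'⟩ := exists_ne (base T)
  have hy : base T ≠ y := hy'.symm
  obtain ⟨e, heT, he2⟩ := exists_invol h
  have hcomm := (abelian_exp_two h).1
  letI : CommGroup (T : Subgroup G) :=
    { (inferInstance : Group (T : Subgroup G)) with
      mul_comm := fun a b => Subtype.ext (hcomm a a.2 b b.2) }
  have hDN : ∀ d : pairStab G (base T) y,
      (d : G) ∈ normalizer ((T : Subgroup G) : Set G) := fun d =>
    mem_normalizer_of_mem_pairStab d.2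
  let ρ : pairStab G (base T) y → AddMonoid.End (Additive (T : Subgroup G)) := fun d =>
    AddMonoidHom.mk'
      (fun a => Additive.ofMul ⟨(d : G) * ((Additive.toMul a : (T : Subgroup G)) : G) * (d : G)⁻¹,
        (mem_normalizer_iff.1 (hDN d) _).1 (Additive.toMul a).2⟩)
      (fun a b => congrArg Additive.ofMul (Subtype.ext (by
        show (d : G) * (((Additive.toMul a : (T : Subgroup G)) : G) *
          ((Additive.toMul b : (T : Subgroup G)) : G)) * (d : G)⁻¹ =
          ((d : G) * ((Additive.toMul a : (T : Subgroup G)) : G) * (d : G)⁻¹) *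
          ((d : G) * ((Additive.toMul b : (T : Subgroup G)) : G) * (d : G)⁻¹)
        group)))
  have hρ : ∀ (d : pairStab G (base T) y) (a : Additive (T : Subgroup G)),
      ((Additive.toMul (ρ d a) : (T : Subgroup G)) : G) =
        (d : G) * ((Additive.toMul a : (T : Subgroup G)) : G) * (d : G)⁻¹ := fun d a => rfl
  have hext : ∀ {a b : Additive (T : Subgroup G)},
      ((Additive.toMul a : (T : Subgroup G)) : G) = ((Additive.toMul b : (T : Subgroup G)) : G) →
      a = b := fun {a b} hab => Additive.toMul.injective (Subtype.ext hab)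
  obtain ⟨F, fF, fFin, τ, hcard, hchar, hτ1, hmulF⟩ := exists_field_of_transitive ρ
    (fun i j => AddMonoidHom.ext fun a => hext (by
      show (i : G) * ((j : G) * ((Additive.toMul a : (T : Subgroup G)) : G) * (j : G)⁻¹) *
        (i : G)⁻¹ = (j : G) * ((i : G) * ((Additive.toMul a : (T : Subgroup G)) : G) *
        (i : G)⁻¹) * (j : G)⁻¹
      generalize ((Additive.toMul a : (T : Subgroup G)) : G) = w
      calc (i : G) * ((j : G) * w * (j : G)⁻¹) * (i : G)⁻¹
          = ((i : G) * j) * w * ((i : G) * j)⁻¹ := by group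
        _ = ((j : G) * i) * w * ((j : G) * i)⁻¹ := by rw [(pairStab_comm h hy i.2 j.2).eq]
        _ = (j : G) * ((i : G) * w * (i : G)⁻¹) * (j : G)⁻¹ := by group))
    (fun a => hext ((abelian_exp_two h).2 _ (Additive.toMul a).2))
    (Additive.ofMul (⟨e, heT⟩ : (T : Subgroup G)))
    (fun h0 => ne_one_of_orderOf_two he2 (congrArg Subtype.val (congrArg Additive.toMul h0)))
    (fun a ha => by
      have hne : ((Additive.toMul a : (T : Subgroup G)) : G) ≠ 1 :=
        fun h1 => ha (hext h1)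
      obtain ⟨d, hd, hde⟩ := exists_conj_fix (uf h) hy
        ((mem_invMap_base h).2 ⟨heT, ne_one_of_orderOf_two he2⟩)
        ((mem_invMap_base h).2 ⟨(Additive.toMul a).2, hne⟩)
      exact ⟨⟨d, hd⟩, hext hde⟩)
    (fun d a ha => hext (by
      have h1 : (d : G) * ((Additive.toMul a : (T : Subgroup G)) : G) * (d : G)⁻¹ = 1 :=
        congrArg (fun b => ((Additive.toMul b : (T : Subgroup G)) : G)) ha
      rwa [mul_inv_eq_one, mul_eq_left] at h1))
  haveI := hchar
  -- coordinates
  let g₀ : F → G := fun x => ((Additive.toMul (τ x) : (T : Subgroup G)) : G)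
  have hg₀T : ∀ x, g₀ x ∈ T := fun x => (Additive.toMul (τ x)).2
  have hg₀add : ∀ x z, g₀ (x + z) = g₀ x * g₀ z := fun x z => by
    simp only [g₀, map_add]; rfl
  have hg₀0 : g₀ 0 = 1 := by simp only [g₀, map_zero]; rfl
  have hg₀fix : ∀ x, g₀ x • base T = base T := fun x => smul_base_iff.2 (le_normalizer (hg₀T x))
  let pt : F → Ω := fun x => g₀ x • y
  have hptne : ∀ x, base T ≠ pt x := fun x e' => hy (smul_left_cancel (g₀ x) ((hg₀fix x).trans e'))
  have hptinj : Function.Injective pt := fun a b hab => τ.injective (hext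
    ((existsUnique_T_smul h hy (hptne b)).unique ⟨hg₀T a, hab⟩ ⟨hg₀T b, rfl⟩))
  have hptsurj : ∀ z, base T ≠ z → ∃ x, pt x = z := fun z hz => by
    obtain ⟨t, ht, e'⟩ := exists_T_smul h hy hz
    refine ⟨τ.symm (Additive.ofMul (⟨t, ht⟩ : (T : Subgroup G))), ?_⟩
    show g₀ _ • y = z
    simp only [g₀, AddEquiv.apply_symm_apply, toMul_ofMul]
    exact e'
  let P : (Fin 2 → F) → Ω := linePoint pt (base T)
  have hPinf : ∀ v : Fin 2 → F, v 1 = 0 → P v = base T := fun v hv => if_pos hv
  have hPpt : ∀ v : Fin 2 → F, v 1 ≠ 0 → P v = pt (v 0 / v 1) := fun v hv => if_neg hv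
  have hPsurj : ∀ z : Ω, ∃ v : Fin 2 → F, v ≠ 0 ∧ P v = z := by
    intro z
    by_cases hz : base T = z
    · exact ⟨![1, 0], fun h0 => one_ne_zero (congrFun h0 0), (hPinf _ rfl).trans hz⟩
    · obtain ⟨x, hx⟩ := hptsurj z hz
      refine ⟨![x, 1], fun h0 => one_ne_zero (congrFun h0 1), ?_⟩
      rw [hPpt _ (show (![x, 1] : Fin 2 → F) 1 ≠ 0 from one_ne_zero)]
      simpa using hx
  let SL := Matrix.SpecialLinearGroup (Fin 2) F
  have hnz : ∀ (M : SL) (v : Fin 2 → F), v ≠ 0 → (M : Matrix (Fin 2) (Fin 2) F).mulVec v ≠ 0 := by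
    intro M v hv h0
    have h1 := congrArg ((M⁻¹ : SL) : Matrix (Fin 2) (Fin 2) F).mulVec h0
    rw [Matrix.mulVec_mulVec, Matrix.mulVec_zero, ← Matrix.SpecialLinearGroup.coe_mul,
      inv_mul_cancel, Matrix.SpecialLinearGroup.coe_one, Matrix.one_mulVec] at h1
    exact hv h1
  let R : SL → G → Prop := fun M g => ∀ v : Fin 2 → F, v ≠ 0 →
    g • P v = P ((M : Matrix (Fin 2) (Fin 2) F).mulVec v)
  have hRmul : ∀ M N g k, R M g → R N k → R (M * N) (g * k) := by
    intro M N g k hM hN v hv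
    rw [mul_smul, hN v hv, hM _ (hnz N v hv), Matrix.SpecialLinearGroup.coe_mul,
      Matrix.mulVec_mulVec]
  have hRone : R 1 1 := by
    intro v _; rw [one_smul, Matrix.SpecialLinearGroup.coe_one, Matrix.one_mulVec]
  -- the three kinds of generators
  have hT : ∀ t ∈ T, ∃ M, R M t := by
    intro t ht
    set c := τ.symm (Additive.ofMul (⟨t, ht⟩ : (T : Subgroup G))) with hc
    have htc : g₀ c = t := by simp only [g₀, hc, AddEquiv.apply_symm_apply, toMul_ofMul]
    refine ⟨⟨!![1, c; 0, 1], by simp [Matrix.det_fin_two]⟩, fun v hv => ?_⟩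
    by_cases hv1 : v 1 = 0
    · rw [hPinf v hv1, hPinf _ (by simp [Matrix.mulVec, dotProduct, hv1]), ← htc, hg₀fix]
    · rw [hPpt v hv1, hPpt _ (by simpa [Matrix.mulVec, dotProduct] using hv1), ← htc]
      show g₀ c • (g₀ (v 0 / v 1) • y) = g₀ _ • y
      rw [smul_smul, ← hg₀add]
      congr 2
      simp [Matrix.mulVec, dotProduct, add_div, hv1, add_comm]
  have hD : ∀ d ∈ pairStab G (base T) y, ∃ M, R M d := by
    intro d hd
    obtain ⟨a, ha0, ha⟩ := hmulF ⟨d, hd⟩
    obtain ⟨b, hb⟩ := FiniteField.isSquare_of_char_two (ringChar.eq F 2) a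
    have hb0 : b ≠ 0 := fun h0 => ha0 (by rw [hb, h0, mul_zero])
    refine ⟨⟨!![b, 0; 0, b⁻¹], by simp [Matrix.det_fin_two, hb0]⟩, fun v hv => ?_⟩
    by_cases hv1 : v 1 = 0
    · rw [hPinf v hv1, hPinf _ (by simp [Matrix.mulVec, dotProduct, hv1]), (mem_pairStab.1 hd).1]
    · rw [hPpt v hv1, hPpt _ (by simp [Matrix.mulVec, dotProduct, hv1, hb0])]
      show d • (g₀ (v 0 / v 1) • y) = g₀ _ • y
      have hconj : g₀ (a * (v 0 / v 1)) = d * g₀ (v 0 / v 1) * d⁻¹ := by
        simp only [g₀, ha]; rfl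
      have harg : a * (v 0 / v 1) = (b * v 0) / (b⁻¹ * v 1) := by
        rw [hb]; field_simp
      conv_rhs => rw [← (mem_pairStab.1 hd).2]
      simp [Matrix.mulVec, dotProduct]
      rw [← harg, hconj, smul_smul, smul_smul, inv_mul_cancel_right]
  obtain ⟨s₁, hs₁, hs₁x⟩ := (uf h).exists_inv (base T)
  obtain ⟨s₂, hs₂, hs₂y⟩ := (uf h).exists_inv y
  obtain ⟨u, hu, -⟩ := exists_interchange (uf h) hs₁ hs₂ hs₁x hs₂y hy
  have huy : u • y = base T := smul_back hu.1 hu.2
  have hne1 : base T ≠ u • pt 1 := fun e' => by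
    have h1 : u • y = u • pt 1 := huy.trans e'
    have h2 := smul_left_cancel u h1
    have h3 : pt 0 = pt 1 := by
      show g₀ 0 • y = pt 1
      rw [hg₀0, one_smul]; exact h2
    exact one_ne_zero (hptinj h3).symm
  obtain ⟨c, hc⟩ := hptsurj _ hne1
  have huform : ∀ x : F, x ≠ 0 → u • pt x = pt (c / x) := by
    intro x hx
    have hmem : g₀ x ≠ 1 := fun h1 => hx (τ.injective (hext (by rw [map_zero]; exact h1)))
    obtain ⟨d, hd, hde⟩ := exists_conj_fix (uf h) hy
      ((mem_invMap_base h).2 ⟨heT, ne_one_of_orderOf_two he2⟩)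
      ((mem_invMap_base h).2 ⟨hg₀T x, hmem⟩)
    obtain ⟨a, ha0, ha⟩ := hmulF ⟨d, hd⟩
    have hax : a = x := τ.injective (hext (by
      rw [show a = a * 1 by rw [mul_one], ha, hρ, hτ1]
      exact hde))
    subst hax
    have hgen : ∀ w, d • pt w = pt (a * w) := fun w => by
      show d • (g₀ w • y) = g₀ (a * w) • y
      have hconj : g₀ (a * w) = d * g₀ w * d⁻¹ := by simp only [g₀, ha]; rfl
      conv_rhs => rw [← (mem_pairStab.1 hd).2]
      rw [hconj, smul_smul, smul_smul, inv_mul_cancel_right]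
    have hud : u * d = d⁻¹ * u := by
      rw [← interchange_inverts h hy hu hd, inv_mul_cancel_right]
    have h1 : u • pt a = d⁻¹ • pt c := by
      rw [show pt a = d • pt 1 by rw [hgen, mul_one], smul_smul, hud, mul_smul, ← hc]
    rw [h1, inv_smul_eq_iff, hgen, mul_div_cancel₀ c hx]
  have hc0 : c ≠ 0 := fun h0 => by
    have h1 : u • pt 1 = u • base T := by
      rw [← hc, h0, hu.2]; show g₀ 0 • y = y; rw [hg₀0, one_smul]
    exact hptne 1 (smul_left_cancel u h1).symm
  have hU : ∃ M, R M u := by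
    obtain ⟨s, hs⟩ := FiniteField.isSquare_of_char_two (ringChar.eq F 2) c
    have hs0 : s ≠ 0 := fun h0 => hc0 (by rw [hs, h0, mul_zero])
    refine ⟨⟨!![0, s; s⁻¹, 0], by simp [Matrix.det_fin_two, hs0, CharTwo.neg_eq]⟩, fun v hv => ?_⟩
    by_cases hv1 : v 1 = 0
    · have hv0 : v 0 ≠ 0 := fun h0 => hv (by ext i; fin_cases i <;> simp [h0, hv1])
      rw [hPinf v hv1, hu.2, hPpt _ (by simp [Matrix.mulVec, dotProduct, hv0, hs0])]
      show y = g₀ _ • y
      simp [Matrix.mulVec, dotProduct, hv1, hg₀0]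
    · rw [hPpt v hv1]
      by_cases hv0 : v 0 = 0
      · rw [hPinf _ (by simp [Matrix.mulVec, dotProduct, hv0]), hv0, zero_div]
        show u • (g₀ 0 • y) = base T
        rw [hg₀0, one_smul, huy]
      · rw [hPpt _ (by simp [Matrix.mulVec, dotProduct, hv0, hs0]),
          huform _ (div_ne_zero hv0 hv1)]
        congr 1
        simp [Matrix.mulVec, dotProduct]
        rw [hs]; field_simp
  have hall : ∀ g : G, ∃ M, R M g := by
    have hN : ∀ g ∈ normalizer ((T : Subgroup G) : Set G), ∃ M, R M g := by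
      intro g hg
      obtain ⟨t, ht, d, hd, rfl⟩ := exists_decomp h hy hg
      obtain ⟨M, hM⟩ := hT t ht
      obtain ⟨M', hM'⟩ := hD d hd
      exact ⟨M * M', hRmul _ _ _ _ hM hM'⟩
    intro g
    by_cases hg : g • base T = base T
    · exact hN g (smul_base_iff.1 hg)
    · obtain ⟨t, ht, htg⟩ := exists_T_smul h hy (Ne.symm hg)
      obtain ⟨M, hM⟩ := hT t ht
      obtain ⟨MU, hMU⟩ := hU
      obtain ⟨M', hM'⟩ := hN (u⁻¹ * t⁻¹ * g) (smul_base_iff.1 (by
        rw [mul_smul, mul_smul, ← htg, inv_smul_smul, ← hu.2, inv_smul_smul]))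
      refine ⟨M * MU * M', ?_⟩
      have h5 := hRmul _ _ _ _ (hRmul _ _ _ _ hM hMU) hM'
      rwa [show t * u * (u⁻¹ * t⁻¹ * g) = g by group] at h5
  have hscalar3 : ∀ M : SL,
      P ((M : Matrix (Fin 2) (Fin 2) F).mulVec ![1, 0]) = P ![1, 0] →
      P ((M : Matrix (Fin 2) (Fin 2) F).mulVec ![0, 1]) = P ![0, 1] →
      P ((M : Matrix (Fin 2) (Fin 2) F).mulVec ![1, 1]) = P ![1, 1] → M = 1 := by
    intro M hM1 hM2 hM3
    have e10 : (M : Matrix (Fin 2) (Fin 2) F) 1 0 = 0 := by
      by_contra h1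
      have h2 := hM1
      rw [hPinf ![1, 0] rfl, hPpt _ (by simpa [Matrix.mulVec, dotProduct] using h1)] at h2
      exact hptne _ h2.symm
    have e01 : (M : Matrix (Fin 2) (Fin 2) F) 0 1 = 0 := by
      have h2 := hM2
      rw [hPpt ![0, 1] one_ne_zero] at h2
      by_cases h1 : ((M : Matrix (Fin 2) (Fin 2) F).mulVec ![0, 1]) 1 = 0
      · rw [hPinf _ h1] at h2; exact absurd h2 (hptne _)
      · rw [hPpt _ h1] at h2
        have h3 := hptinj h2
        simp [Matrix.mulVec, dotProduct] at h1 h3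
        rcases h3 with h4 | h4
        · exact h4
        · exact absurd h4 h1
    have hdet : (M : Matrix (Fin 2) (Fin 2) F) 0 0 * (M : Matrix (Fin 2) (Fin 2) F) 1 1 = 1 := by
      have := M.2
      rw [Matrix.det_fin_two, e01, zero_mul, sub_zero] at this
      exact this
    have heq : (M : Matrix (Fin 2) (Fin 2) F) 0 0 = (M : Matrix (Fin 2) (Fin 2) F) 1 1 := by
      have h2 := hM3
      have h11 : (M : Matrix (Fin 2) (Fin 2) F) 1 1 ≠ 0 := fun h0 => by simp [h0] at hdet
      rw [hPpt ![1, 1] one_ne_zero, hPpt _ (by simpa [Matrix.mulVec, dotProduct, e10] using h11)]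
        at h2
      have h3 := hptinj h2
      simpa [Matrix.mulVec, dotProduct, e01, e10, div_eq_iff h11] using h3
    have h00 : (M : Matrix (Fin 2) (Fin 2) F) 0 0 = 1 := by
      rw [← heq] at hdet
      rcases mul_self_eq_one_iff.1 hdet with h | h
      · exact h
      · rw [h, CharTwo.neg_eq]
    apply Subtype.ext
    ext i j
    fin_cases i <;> fin_cases j
    · simpa using h00
    · simpa using e01
    · simpa using e10
    · simpa [← heq] using h00
  have hscalar : ∀ M : SL, (∀ v : Fin 2 → F, v ≠ 0 →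
      P ((M : Matrix (Fin 2) (Fin 2) F).mulVec v) = P v) → M = 1 := fun M hM =>
    hscalar3 M (hM _ fun h0 => one_ne_zero (congrFun h0 0))
      (hM _ fun h0 => one_ne_zero (congrFun h0 1)) (hM _ fun h0 => one_ne_zero (congrFun h0 0))
  choose φ hφ using hall
  have huniqM : ∀ M N g, R M g → R N g → M = N := by
    intro M N g hM hN
    have h1 : N⁻¹ * M = 1 := hscalar _ fun v hv => by
      have e1 := hN _ (hnz (N⁻¹ * M) v hv)
      rw [Matrix.mulVec_mulVec, ← Matrix.SpecialLinearGroup.coe_mul, mul_inv_cancel_left,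
        ← hM v hv] at e1
      exact smul_left_cancel g e1
    exact (inv_mul_eq_one.1 h1).symm
  let f : G →* SL := MonoidHom.mk' φ fun a b =>
    huniqM _ _ _ (hφ _) (hRmul _ _ _ _ (hφ a) (hφ b))
  have hfinj : Function.Injective f := by
    refine (injective_iff_map_eq_one f).2 fun g hg => ?_
    have hfix : ∀ z : Ω, g • z = z := fun z => by
      obtain ⟨v, hv, rfl⟩ := hPsurj z
      rw [hφ g v hv, show φ g = 1 from hg, Matrix.SpecialLinearGroup.coe_one, Matrix.one_mulVec]
    exact eq_one_of_fix_triple h g (base T) (pt 0) (pt 1) (hptne 0) (hptne 1)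
      (fun e' => zero_ne_one (hptinj e')) (hfix _) (hfix _) (hfix _)
  have hfsurj : Function.Surjective f := by
    intro M
    -- compose with the inverse of the image of a triple
    have key : ∀ (N : SL) (x z : Fin 2 → F), x ≠ 0 → z ≠ 0 →
        P x = P z → P ((N : Matrix (Fin 2) (Fin 2) F).mulVec x) =
          P ((N : Matrix (Fin 2) (Fin 2) F).mulVec z) := by
      intro N x z hx hz hxz
      have hprop : ∃ k : F, k ≠ 0 ∧ x = k • z := by
        by_cases ha : x 1 = 0
        · by_cases hb : z 1 = 0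
          · have hz0 : z 0 ≠ 0 := fun h0 => hz (by ext i; fin_cases i <;> simp [h0, hb])
            have hx0 : x 0 ≠ 0 := fun h0 => hx (by ext i; fin_cases i <;> simp [h0, ha])
            exact ⟨x 0 / z 0, div_ne_zero hx0 hz0,
              by ext i; fin_cases i <;> simp [ha, hb, hz0]⟩
          · rw [hPinf _ ha, hPpt _ hb] at hxz; exact absurd hxz (hptne _)
        · by_cases hb : z 1 = 0
          · rw [hPpt _ ha, hPinf _ hb] at hxz; exact absurd hxz.symm (hptne _)
          · rw [hPpt _ ha, hPpt _ hb] at hxz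
            have h3 := hptinj hxz
            refine ⟨x 1 / z 1, div_ne_zero ha hb, ?_⟩
            ext i; fin_cases i
            · show x 0 = x 1 / z 1 * z 0
              field_simp at h3 ⊢
              linear_combination h3
            · simp [hb]
      obtain ⟨k, hk, rfl⟩ := hprop
      rw [Matrix.mulVec_smul]
      set w := (N : Matrix (Fin 2) (Fin 2) F).mulVec z
      by_cases hw : w 1 = 0
      · rw [hPinf _ hw, hPinf _ (by simp [hw])]
      · rw [hPpt _ hw, hPpt _ (by simp [hw, hk])]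
        congr 1
        simp [hk, mul_div_mul_left]
    have hMinj : ∀ x z : Fin 2 → F, x ≠ 0 → z ≠ 0 →
        P ((M : Matrix (Fin 2) (Fin 2) F).mulVec x) = P ((M : Matrix (Fin 2) (Fin 2) F).mulVec z) →
        P x = P z := by
      intro x z hx hz hxz
      have h1 := key M⁻¹ _ _ (hnz M x hx) (hnz M z hz) hxz
      rwa [Matrix.mulVec_mulVec, Matrix.mulVec_mulVec, ← Matrix.SpecialLinearGroup.coe_mul,
        inv_mul_cancel, Matrix.SpecialLinearGroup.coe_one, Matrix.one_mulVec,
        Matrix.one_mulVec] at h1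
    set v₁ : Fin 2 → F := ![1, 0]
    set v₂ : Fin 2 → F := ![0, 1]
    set v₃ : Fin 2 → F := ![1, 1]
    have hv₁ : v₁ ≠ 0 := fun h0 => one_ne_zero (congrFun h0 0)
    have hv₂ : v₂ ≠ 0 := fun h0 => one_ne_zero (congrFun h0 1)
    have hv₃ : v₃ ≠ 0 := fun h0 => one_ne_zero (congrFun h0 0)
    have p₁ : P v₁ = base T := hPinf _ rfl
    have p₂ : P v₂ = pt 0 := by rw [hPpt _ one_ne_zero]; simp [v₂]
    have p₃ : P v₃ = pt 1 := by rw [hPpt _ one_ne_zero]; simp [v₃]
    obtain ⟨g, hg1, hg2, hg3⟩ := exists_smul_triple h (P v₁) (P v₂) (P v₃)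
      (P ((M : Matrix (Fin 2) (Fin 2) F).mulVec v₁)) (P ((M : Matrix (Fin 2) (Fin 2) F).mulVec v₂))
      (P ((M : Matrix (Fin 2) (Fin 2) F).mulVec v₃))
      (by rw [p₁, p₂]; exact hptne 0) (by rw [p₁, p₃]; exact hptne 1)
      (by rw [p₂, p₃]; exact fun e' => zero_ne_one (hptinj e'))
      (fun e' => by have := hMinj _ _ hv₁ hv₂ e'; rw [p₁, p₂] at this; exact hptne 0 this)
      (fun e' => by have := hMinj _ _ hv₁ hv₃ e'; rw [p₁, p₃] at this; exact hptne 1 this)
      (fun e' => by
        have := hMinj _ _ hv₂ hv₃ e'; rw [p₂, p₃] at this; exact zero_ne_one (hptinj this))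
    refine ⟨g, ?_⟩
    have hagree : ∀ v : Fin 2 → F, v ≠ 0 → (v = v₁ ∨ v = v₂ ∨ v = v₃) →
        P (((φ g)⁻¹ * M : SL).1.mulVec v) = P v := by
      intro v hv hcases
      have hgv : g • P v = P ((M : Matrix (Fin 2) (Fin 2) F).mulVec v) := by
        rcases hcases with rfl | rfl | rfl <;> assumption
      rw [hφ g v hv] at hgv
      have h1 := key (φ g)⁻¹ _ _ (hnz (φ g) v hv) (hnz M v hv) hgv
      rw [Matrix.mulVec_mulVec, Matrix.mulVec_mulVec, ← Matrix.SpecialLinearGroup.coe_mul,
        inv_mul_cancel, Matrix.SpecialLinearGroup.coe_one, Matrix.one_mulVec] at h1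
      exact h1.symm
    exact inv_mul_eq_one.1 (hscalar3 _ (hagree _ hv₁ (Or.inl rfl)) (hagree _ hv₂ (Or.inr (Or.inl rfl)))
      (hagree _ hv₃ (Or.inr (Or.inr rfl))))
  have hcenter : Subgroup.center SL = ⊥ := by
    refine (eq_bot_iff_forall _).2 fun A hA => ?_
    obtain ⟨r, hr, hA'⟩ := Matrix.SpecialLinearGroup.mem_center_iff.1 hA
    rw [Fintype.card_fin, sq] at hr
    have hr1 : r = 1 := by
      rcases mul_self_eq_one_iff.1 hr with h | h
      · exact h
      · rw [h, CharTwo.neg_eq]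
    apply Subtype.ext
    rw [← hA', hr1, map_one]
    rfl
  exact ⟨F, fF, fFin, by rw [← Nat.card_eq_fintype_card, hcard]; rfl,
    ⟨(MulEquiv.ofBijective f ⟨hfinj, hfsurj⟩).trans
      (QuotientGroup.quotientBot.symm.trans (QuotientGroup.quotientMulEquivOfEq hcenter.symm))⟩⟩

end CfsgLib.SEmbed
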