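import Cfsg.Agent.SEmbed.Cosets
import Cfsg.Agent.S0118
import Mathlib.LinearAlgebra.Matrix.SpecialLinearGroup

/-!
# Lifting `SL(2,p)` sections into a point stabilizer (L6), and fusion control

* `exists_le_stabilizer_of_two_normal`: a section with a nontrivial normal 2-subgroup is a section of
  a point stabilizer;
* `slFree_of_stabilizer`: hence `G` involves `SL(2,p)`, `p` odd, only if the strongly embedded `H` does,
  and otherwise `fusion_zj` applies;
* `transitive_fixSet_of_control`: if `H` controls the fusion of `p`-groups, `C(T)` is transitive on the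
  points fixed by a `p`-group `T ≤ H`.
-/

set_option autoImplicit false
set_option linter.style.haveILetI false

namespace CfsgLib.SEmbed

open CfsgLib.Small Subgroup

section Point

variable {G : Type*} [Group G] [Finite G] {Ω : Type*} [MulAction G Ω] (h : UniqueFix G Ω)
include h

/-- The normalizer of a nontrivial 2-subgroup fixes a point. -/
theorem exists_normalizer_le_stabilizer {T : Subgroup G} (hT : IsPGroup 2 T) (hT1 : T ≠ ⊥) :
    ∃ c : Ω, normalizer (T : Set G) ≤ MulAction.stabilizer G c := by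
  haveI : Fact (Nat.Prime 2) := ⟨Nat.prime_two⟩
  haveI : Nontrivial T := (nontrivial_iff_ne_bot T).2 hT1
  haveI := hT.center_nontrivial
  obtain ⟨z, hz⟩ : ∃ z : center T, orderOf z = 2 := by
    refine exists_prime_orderOf_dvd_card' 2 ?_
    obtain ⟨n, hn⟩ := IsPGroup.iff_card.1 (hT.to_subgroup (center T))
    rw [hn]
    refine dvd_pow_self 2 fun h0 => ?_
    rw [h0, pow_zero] at hn
    exact absurd ((Nat.card_eq_one_iff_unique.1 hn).1) (not_subsingleton _)
  have hzo : orderOf ((z : T) : G) = 2 := by rw [orderOf_coe, orderOf_coe, hz]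
  obtain ⟨c, hc⟩ := h.exists_fix _ hzo
  refine ⟨c, fun g hg => ?_⟩
  set z' : G := g * ((z : T) : G) * g⁻¹ with hz'
  have hz'T : z' ∈ T := (mem_normalizer_iff.1 hg _).1 (z : T).2
  have hcomm : Commute z' ((z : T) : G) :=
    congrArg Subtype.val (mem_center_iff.1 z.2 ⟨z', hz'T⟩)
  have h1 : z' • c = c := commute_fix h hzo hcomm hc
  have h2 : z' • (g • c) = g • c := by
    rw [hz', smul_smul, inv_mul_cancel_right, mul_smul, hc]
  exact h.unique z' ((orderOf_conj_eq _ _).trans hzo) _ _ h2 h1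

/-- **L6**: a section with a nontrivial normal 2-subgroup is a section of a point stabilizer. -/
theorem exists_le_stabilizer_of_two_normal {Q : Type*} [Group Q] (Z : Subgroup Q) [Z.Normal]
    (hZ : IsPGroup 2 Z) (hZ1 : Z ≠ ⊥) {K : Subgroup G} (f : K →* Q) (hf : Function.Surjective f) :
    ∃ (K' : Subgroup G) (c : Ω) (f' : K' →* Q), K' ≤ MulAction.stabilizer G c ∧
      Function.Surjective f' := by
  haveI : Fact (Nat.Prime 2) := ⟨Nat.prime_two⟩
  let L : Subgroup K := Z.comap f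
  obtain ⟨T⟩ : Nonempty (Sylow 2 L) := inferInstance
  let T₁ : Subgroup K := (T : Subgroup L).map L.subtype
  haveI : L.Normal := Subgroup.Normal.comap inferInstance f
  have hTL := Sylow.normalizer_sup_eq_top (N := L) T
  -- `f` maps `T` onto `Z`
  let φ : L →* Z := (f.comp L.subtype).codRestrict Z fun x => x.2
  have hφ : Function.Surjective φ := by
    rintro ⟨x, hx⟩
    obtain ⟨k, rfl⟩ := hf x
    exact ⟨⟨k, hx⟩, rfl⟩
  have hTtop : ((T.mapSurjective hφ : Sylow 2 Z) : Subgroup Z) = ⊤ :=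
    ((T.mapSurjective hφ).3 (hZ.of_equiv Subgroup.topEquiv.symm) le_top).symm
  have hfT : ∀ x ∈ Z, ∃ y ∈ T₁, f y = x := by
    intro x hx
    have hmem : (⟨x, hx⟩ : Z) ∈ (T : Subgroup L).map φ := by
      rw [← Sylow.coe_mapSurjective hφ T, hTtop]; trivial
    obtain ⟨y, hy, hyx⟩ := hmem
    exact ⟨y, ⟨y, hy, rfl⟩, congrArg Subtype.val hyx⟩
  let K' : Subgroup K := normalizer (T₁ : Set K)
  have hsur : Function.Surjective (f.comp K'.subtype) := by
    intro x
    obtain ⟨k, rfl⟩ := hf x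
    have hk : k ∈ normalizer (T₁ : Set K) ⊔ L := hTL ▸ mem_top k
    obtain ⟨u, hu, l, hl, rfl⟩ := mem_sup_of_normal_right.1 hk
    obtain ⟨y, hy, hyl⟩ := hfT (f l) hl
    refine ⟨⟨u * y, mul_mem hu (le_normalizer hy)⟩, ?_⟩
    show f (u * y) = f (u * l)
    rw [map_mul, map_mul, hyl]
  let T₂ : Subgroup G := T₁.map K.subtype
  have hT2 : IsPGroup 2 T₂ := (T.isPGroup'.map _).map _
  have hT21 : T₂ ≠ ⊥ := by
    intro h0
    refine hZ1 ((eq_bot_iff_forall _).2 fun x hx => ?_)
    obtain ⟨y, hy, rfl⟩ := hfT x hx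
    have h2 : (y : G) ∈ T₂ := ⟨y, hy, rfl⟩
    rw [h0, mem_bot] at h2
    obtain rfl : y = 1 := Subtype.ext h2
    exact map_one f
  obtain ⟨c, hc⟩ := exists_normalizer_le_stabilizer h hT2 hT21
  let e := K'.equivMapOfInjective K.subtype K.subtype_injective
  refine ⟨K'.map K.subtype, c, (f.comp K'.subtype).comp e.symm.toMonoidHom, ?_,
    hsur.comp e.symm.surjective⟩
  refine le_trans ?_ hc
  rintro _ ⟨k, hk, rfl⟩
  rw [mem_normalizer_iff]
  intro x
  constructor
  · rintro ⟨y, hy, rfl⟩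
    exact ⟨k * y * k⁻¹, (mem_normalizer_iff.1 hk y).1 hy, rfl⟩
  · rintro ⟨y, hy, hyx⟩
    refine ⟨k⁻¹ * y * k, ?_, ?_⟩
    · refine (mem_normalizer_iff.1 hk _).2 ?_
      rwa [show k * (k⁻¹ * y * k) * k⁻¹ = y by group]
    · change (y : G) = (k : G) * x * (k : G)⁻¹ at hyx
      show (k : G)⁻¹ * (y : G) * (k : G) = x
      rw [hyx]; group

end Point

section Free

variable {G : Type*} [Group G]

/-- `SL(2,p)` is not involved in `H`. -/
def SLFree (p : ℕ) [Fact p.Prime] (H : Subgroup G) : Prop :=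
  ∀ (K : Subgroup G) (f : K →* Matrix.SpecialLinearGroup (Fin 2) (ZMod p)),
    K ≤ H → ¬ Function.Surjective f

variable [Finite G] {p : ℕ} [Fact p.Prime]

/-- `G` involves `SL(2,p)` only if the strongly embedded subgroup does. -/
theorem slFree_of_stabilizer {H : Subgroup G} (hH : Cfsg.IsStronglyEmbedded H) (hp : p ≠ 2)
    (hfree : SLFree p H) : SLFree p (⊤ : Subgroup G) := by
  intro K f _ hf
  let Z : Subgroup (Matrix.SpecialLinearGroup (Fin 2) (ZMod p)) := center _
  have h2 : (2 : ZMod p) ≠ 0 := by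
    intro h
    have hd : p ∣ 2 := (ZMod.natCast_eq_zero_iff 2 p).1 (by exact_mod_cast h)
    exact hp ((Nat.prime_dvd_prime_iff_eq Fact.out Nat.prime_two).1 hd)
  have hneg : (-1 : Matrix.SpecialLinearGroup (Fin 2) (ZMod p)) ∈ Z := by
    refine mem_center_iff.2 fun g => ?_
    simp
  have hne : (-1 : Matrix.SpecialLinearGroup (Fin 2) (ZMod p)) ≠ 1 := by
    intro h
    have h' : (-1 : ZMod p) = 1 := by
      simpa using congrArg (fun g : Matrix.SpecialLinearGroup (Fin 2) (ZMod p) => g.1 0 0) h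
    apply h2
    calc (2 : ZMod p) = 1 + 1 := by norm_num
      _ = 1 + -1 := by rw [h']
      _ = 0 := add_neg_cancel 1
  let W : Subgroup (Matrix.SpecialLinearGroup (Fin 2) (ZMod p)) := zpowers (-1)
  haveI : W.Normal := ⟨fun x hx g => by
    rw [mem_center_iff.1 (zpowers_le.2 hneg hx) g, mul_inv_cancel_right]; exact hx⟩
  have hWo : orderOf (-1 : Matrix.SpecialLinearGroup (Fin 2) (ZMod p)) = 2 :=
    orderOf_eq_two_iff_sq.2 ⟨hne, by simp⟩
  have hW : IsPGroup 2 W := IsPGroup.of_card (n := 1) (by rw [Nat.card_zpowers, hWo, pow_one])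
  obtain ⟨K', c, f', hK', hf'⟩ := exists_le_stabilizer_of_two_normal (uniqueFix hH) W hW
    (zpowers_ne_bot.2 hne) f hf
  obtain ⟨g, rfl⟩ := QuotientGroup.mk_surjective c
  let e := K'.equivMapOfInjective (MulAut.conj g⁻¹).toMonoidHom (MulAut.conj g⁻¹).injective
  refine hfree _ (f'.comp e.symm.toMonoidHom) ?_ (hf'.comp e.symm.surjective)
  rintro _ ⟨k, hk, rfl⟩
  have := (smul_mk_eq_iff H k g).1 (hK' hk)
  simpa [mul_assoc] using this

/-- Glauberman's fusion control in that case. -/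
theorem fusion_zj {H : Subgroup G} (hH : Cfsg.IsStronglyEmbedded H) (hp : p ≠ 2)
    (hfree : SLFree p H) (P : Sylow p G) (A : Set G) (hA : A ⊆ (P : Set G)) (g : G)
    (hAg : (fun a => g⁻¹ * a * g) '' A ⊆ (P : Set G)) :
    ∃ n ∈ normalizer (Cfsg.centerThompsonOf p (P : Subgroup G) : Set G),
      ∀ a ∈ A, n⁻¹ * a * n = g⁻¹ * a * g := by
  refine Cfsg.Agent.S0118.result hp ?_ P A hA g hAg
  rintro ⟨K, N, hN, ⟨e⟩⟩
  exact slFree_of_stabilizer hH hp hfree K
    (e.toMonoidHom.comp (QuotientGroup.mk' (N.subgroupOf K))) le_top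
    (e.surjective.comp (QuotientGroup.mk'_surjective _))

omit [Finite G] [Fact p.Prime] in
/-- If `H` controls the fusion of `p`-groups, `C(T)` is transitive on the points fixed by `T ≤ H`. -/
theorem transitive_fixSet_of_control {H : Subgroup G}
    (hctrl : ∀ T : Subgroup G, IsPGroup p T → T ≤ H → ∀ g : G, (∀ x ∈ T, g * x * g⁻¹ ∈ H) →
      ∃ k ∈ H, ∀ x ∈ T, k * x * k⁻¹ = g * x * g⁻¹)
    {T : Subgroup G} (hT : IsPGroup p T) (hTH : T ≤ H) (x : G ⧸ H) (hx : ∀ t ∈ T, t • x = x) :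
    ∃ c ∈ centralizer (T : Set G), c • ((1 : G) : G ⧸ H) = x := by
  obtain ⟨g, rfl⟩ := QuotientGroup.mk_surjective x
  obtain ⟨k, hk, hkT⟩ := hctrl T hT hTH g⁻¹ fun t ht => by
    rw [inv_inv]; exact (smul_mk_eq_iff H t g).1 (hx t ht)
  refine ⟨g * k, ?_, ?_⟩
  · rw [mem_centralizer_iff]
    intro t ht
    have h' := hkT t ht
    rw [inv_inv] at h'
    calc t * (g * k) = g * (g⁻¹ * t * g) * k := by group
      _ = g * k * t := by rw [← h']; group
  · rw [smul_mk_one]
    exact QuotientGroup.eq.2 (by simpa using inv_mem hk)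

end Free

end CfsgLib.SEmbed
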